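import Mathlib
import Cfsg.Agent.Lib.Helper7.SubfDefs

set_option autoImplicit false

/-!
# S5658 (subfield groups are maximal in `SU_n`): definitions and basic calculus

After conjugating by the change of basis `P` the rational vectors are those with coordinates in `F₀`
and the unitary form is `bf σ J x y = Σ x_i J_ij σ(y_j)` with a rational Hermitian Gram matrix `J`.

* `fl σ J v` is the functional `x ↦ bf x v` (as a vector: `x ↦ fl v ⬝ᵥ x`);
* `tu σ J a v = 1 + a • v (fl v)ᵀ` is the long root element (unitary transvection) `x ↦ x + a ⟨x,v⟩ v`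
  (an isometry when `⟨v,v⟩ = 0`, `σ a = -a`);
* `eu σ J s u w = 1 + s • u (fl w)ᵀ - σ s • w (fl u)ᵀ` is the short root element
  `x ↦ x + s ⟨x,w⟩ u - σ(s) ⟨x,u⟩ w` (an isometry when `u, w` span a totally isotropic subspace).

We reuse `tvm`, `Mm`, `Rat`, `RatMat`, `InN`, `Indep` and the rank one calculus of `Helper7.SubfDefs`.
-/

namespace Cfsg.Agent.Lib.Helper5.SUf

open Matrix Cfsg.Agent.Lib.Helper7.Subf

variable {F : Type*} [Field F] {n : ℕ}

/-- the `σ`-conjugate of a vector -/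
def cj (σ : F ≃+* F) (v : Fin n → F) : Fin n → F := fun i => σ (v i)

/-- the functional `⟨·, v⟩`, as a vector -/
def fl (σ : F ≃+* F) (J : Matrix (Fin n) (Fin n) F) (v : Fin n → F) : Fin n → F := J *ᵥ cj σ v

/-- the form `⟨x, y⟩ = Σ x_i J_ij σ(y_j)`, linear in `x`, `σ`-semilinear in `y` -/
def bf (σ : F ≃+* F) (J : Matrix (Fin n) (Fin n) F) (x y : Fin n → F) : F := fl σ J y ⬝ᵥ x

/-- the long root element (unitary transvection) `x ↦ x + a ⟨x,v⟩ v` -/
def tu (σ : F ≃+* F) (J : Matrix (Fin n) (Fin n) F) (a : F) (v : Fin n → F) :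
    Matrix (Fin n) (Fin n) F := tvm a v (fl σ J v)

/-- the short root element `x ↦ x + s ⟨x,w⟩ u - σ(s) ⟨x,u⟩ w` -/
def eu (σ : F ≃+* F) (J : Matrix (Fin n) (Fin n) F) (s : F) (u w : Fin n → F) :
    Matrix (Fin n) (Fin n) F :=
  1 + s • vecMulVec u (fl σ J w) - σ s • vecMulVec w (fl σ J u)

/-- `A` is an isometry of the form -/
def IsoU (σ : F ≃+* F) (J : Matrix (Fin n) (Fin n) F) (A : Matrix (Fin n) (Fin n) F) : Prop :=
  ∀ x y, bf σ J (A *ᵥ x) (A *ᵥ y) = bf σ J x y

/-- the standing hypotheses on `(F₀, σ, J)`: `σ` is an involution of `F` which is non-trivial on the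
`σ`-stable subfield `F₀`; `J` is a rational, Hermitian, invertible Gram matrix -/
structure USet (F₀ : Subfield F) (σ : F ≃+* F) (J : Matrix (Fin n) (Fin n) F) : Prop where
  invol : ∀ a, σ (σ a) = a
  stable : ∀ c ∈ F₀, σ c ∈ F₀
  nontriv : ∃ c ∈ F₀, σ c ≠ c
  herm : ∀ i j, J j i = σ (J i j)
  rat : RatMat F₀ J
  nondeg : IsUnit J.det

/-- all elements of `M` are isometries of determinant one -/
def MIso (σ : F ≃+* F) (J : Matrix (Fin n) (Fin n) F) (M : Subgroup (GL (Fin n) F)) : Prop :=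
  ∀ g ∈ M, IsoU σ J (g : Matrix (Fin n) (Fin n) F) ∧ (g : Matrix (Fin n) (Fin n) F).det = 1

/-- `M` contains the rational special isometries -/
def HasRatIso (F₀ : Subfield F) (σ : F ≃+* F) (J : Matrix (Fin n) (Fin n) F)
    (M : Subgroup (GL (Fin n) F)) : Prop :=
  ∀ g : GL (Fin n) F, RatMat F₀ (g : Matrix (Fin n) (Fin n) F) →
    IsoU σ J (g : Matrix (Fin n) (Fin n) F) → (g : Matrix (Fin n) (Fin n) F).det = 1 → g ∈ M

/-- a rational totally isotropic pair: `u, w` rational, independent, spanning a totally isotropic plane -/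
def TIP (F₀ : Subfield F) (σ : F ≃+* F) (J : Matrix (Fin n) (Fin n) F) (u w : Fin n → F) : Prop :=
  Rat F₀ u ∧ Rat F₀ w ∧ bf σ J u u = 0 ∧ bf σ J w w = 0 ∧ bf σ J u w = 0 ∧ Indep u w

/-- the coefficient set of the short root elements of `M` at rational totally isotropic pairs -/
def SSet (F₀ : Subfield F) (σ : F ≃+* F) (J : Matrix (Fin n) (Fin n) F)
    (M : Subgroup (GL (Fin n) F)) : Set F :=
  {s | ∀ u w : Fin n → F, TIP F₀ σ J u w → Mm M (eu σ J s u w)}

/-- the coefficient set of the long root elements of `M` at rational isotropic vectors -/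
def ASet (F₀ : Subfield F) (σ : F ≃+* F) (J : Matrix (Fin n) (Fin n) F)
    (M : Subgroup (GL (Fin n) F)) : Set F :=
  {a | σ a = -a ∧ ∀ v : Fin n → F, Rat F₀ v → bf σ J v v = 0 → Mm M (tu σ J a v)}

end Cfsg.Agent.Lib.Helper5.SUf
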