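import Mathlib
import Cfsg.Agent.Lib.Helper5.SUf.Defs
import Cfsg.Agent.Lib.Helper3.Subf_N

set_option autoImplicit false

/-!
# S5658: basic calculus for the form, the isometries and the root elements
-/

namespace Cfsg.Agent.Lib.Helper5.SUf

open Matrix Cfsg.Agent.Lib.Helper7.Subf

variable {F : Type*} [Field F] {n : ℕ} {σ : F ≃+* F} {J : Matrix (Fin n) (Fin n) F}

/-! ## the form -/

theorem fl_dot (v x : Fin n → F) : fl σ J v ⬝ᵥ x = bf σ J x v := rfl

theorem cj_add (x y : Fin n → F) : cj σ (x + y) = cj σ x + cj σ y := by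
  ext i; simp [cj]

theorem cj_smul (c : F) (x : Fin n → F) : cj σ (c • x) = σ c • cj σ x := by
  ext i; simp [cj]

theorem cj_zero : cj σ (0 : Fin n → F) = 0 := by
  ext i; simp [cj]

theorem cj_neg (x : Fin n → F) : cj σ (-x) = -cj σ x := by
  ext i; simp [cj]

theorem cj_sub (x y : Fin n → F) : cj σ (x - y) = cj σ x - cj σ y := by
  ext i; simp [cj]

theorem fl_add (x y : Fin n → F) : fl σ J (x + y) = fl σ J x + fl σ J y := by
  rw [fl, fl, fl, cj_add, mulVec_add]

theorem fl_smul (c : F) (x : Fin n → F) : fl σ J (c • x) = σ c • fl σ J x := by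
  rw [fl, fl, cj_smul, mulVec_smul]

theorem fl_zero : fl σ J (0 : Fin n → F) = 0 := by
  rw [fl, cj_zero, mulVec_zero]

theorem fl_neg (x : Fin n → F) : fl σ J (-x) = -fl σ J x := by
  rw [fl, fl, cj_neg, mulVec_neg]

theorem fl_sub (x y : Fin n → F) : fl σ J (x - y) = fl σ J x - fl σ J y := by
  rw [fl, fl, fl, cj_sub, mulVec_sub]

theorem bf_add_left (x x' y : Fin n → F) : bf σ J (x + x') y = bf σ J x y + bf σ J x' y := by
  rw [bf, bf, bf, dotProduct_add]

theorem bf_smul_left (c : F) (x y : Fin n → F) : bf σ J (c • x) y = c * bf σ J x y := by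
  rw [bf, bf, dotProduct_smul, smul_eq_mul]

theorem bf_add_right (x y y' : Fin n → F) : bf σ J x (y + y') = bf σ J x y + bf σ J x y' := by
  rw [bf, bf, bf, fl_add, add_dotProduct]

theorem bf_smul_right (c : F) (x y : Fin n → F) : bf σ J x (c • y) = σ c * bf σ J x y := by
  rw [bf, bf, fl_smul, smul_dotProduct, smul_eq_mul]

theorem bf_zero_left (y : Fin n → F) : bf σ J 0 y = 0 := by
  rw [bf, dotProduct_zero]

theorem bf_zero_right (x : Fin n → F) : bf σ J x 0 = 0 := by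
  rw [bf, fl_zero, zero_dotProduct]

theorem bf_neg_left (x y : Fin n → F) : bf σ J (-x) y = -bf σ J x y := by
  rw [bf, bf, dotProduct_neg]

theorem bf_neg_right (x y : Fin n → F) : bf σ J x (-y) = -bf σ J x y := by
  rw [bf, bf, fl_neg, neg_dotProduct]

theorem bf_sub_left (x x' y : Fin n → F) : bf σ J (x - x') y = bf σ J x y - bf σ J x' y := by
  rw [bf, bf, bf, dotProduct_sub]

theorem bf_sub_right (x y y' : Fin n → F) : bf σ J x (y - y') = bf σ J x y - bf σ J x y' := by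
  rw [bf, bf, bf, fl_sub, sub_dotProduct]

/-- explicit double sum -/
theorem bf_eq_sum (x y : Fin n → F) : bf σ J x y = ∑ i, ∑ j, x i * J i j * σ (y j) := by
  simp only [bf, fl, dotProduct, mulVec, cj]
  refine Finset.sum_congr rfl (fun i _ => ?_)
  rw [Finset.sum_mul]
  refine Finset.sum_congr rfl (fun j _ => ?_)
  ring

/-- the form is Hermitian -/
theorem bf_symm (hinv : ∀ a, σ (σ a) = a) (hJ : ∀ i j, J j i = σ (J i j)) (x y : Fin n → F) :
    bf σ J y x = σ (bf σ J x y) := by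
  rw [bf_eq_sum, bf_eq_sum, map_sum, Finset.sum_comm]
  refine Finset.sum_congr rfl (fun i _ => ?_)
  rw [map_sum]
  refine Finset.sum_congr rfl (fun j _ => ?_)
  rw [map_mul, map_mul, hinv, hJ i j]
  ring

theorem USet.bf_symm {F₀ : Subfield F} (hU : USet F₀ σ J) (x y : Fin n → F) :
    bf σ J y x = σ (bf σ J x y) := SUf.bf_symm hU.invol hU.herm x y

theorem USet.bf_eq_zero_symm {F₀ : Subfield F} (hU : USet F₀ σ J) {x y : Fin n → F}
    (h : bf σ J x y = 0) : bf σ J y x = 0 := by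
  rw [hU.bf_symm, h, map_zero]

/-- rational vectors have rational pairings -/
theorem USet.bf_rat {F₀ : Subfield F} (hU : USet F₀ σ J) {x y : Fin n → F} (hx : Rat F₀ x)
    (hy : Rat F₀ y) : bf σ J x y ∈ F₀ := by
  rw [bf_eq_sum]
  exact F₀.sum_mem (fun i _ => F₀.sum_mem (fun j _ =>
    F₀.mul_mem (F₀.mul_mem (hx i) (hU.rat i j)) (hU.stable _ (hy j))))

theorem USet.rat_cj {F₀ : Subfield F} (hU : USet F₀ σ J) {x : Fin n → F} (hx : Rat F₀ x) :
    Rat F₀ (cj σ x) := fun i => hU.stable _ (hx i)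

theorem USet.rat_fl {F₀ : Subfield F} (hU : USet F₀ σ J) {x : Fin n → F} (hx : Rat F₀ x) :
    Rat F₀ (fl σ J x) := RatMat.mulVec hU.rat (hU.rat_cj hx)

/-- non-degeneracy -/
theorem USet.eq_zero_of_bf_left {F₀ : Subfield F} (hU : USet F₀ σ J) {y : Fin n → F}
    (h : ∀ x, bf σ J x y = 0) : y = 0 := by
  have h1 : fl σ J y = 0 := by
    ext i
    have := h (Pi.single i 1)
    rw [bf, dotProduct_single, mul_one] at this
    exact this
  have h2 : cj σ y = 0 := by
    have hinj := Matrix.mulVec_injective_iff_isUnit.2 ((Matrix.isUnit_iff_isUnit_det J).2 hU.nondeg)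
    apply hinj
    rw [mulVec_zero]
    exact h1
  ext i
  have := congrFun h2 i
  simp only [cj, Pi.zero_apply] at this
  exact (map_eq_zero σ).1 this

theorem USet.eq_zero_of_bf_right {F₀ : Subfield F} (hU : USet F₀ σ J) {x : Fin n → F}
    (h : ∀ y, bf σ J x y = 0) : x = 0 := by
  apply hU.eq_zero_of_bf_left
  intro y
  rw [hU.bf_symm, h, map_zero]

/-! ## the root elements as maps -/

theorem tu_mulVec (a : F) (v x : Fin n → F) : tu σ J a v *ᵥ x = x + (a * bf σ J x v) • v := by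
  rw [tu, tvm_mulVec, fl_dot]

theorem eu_mulVec (s : F) (u w x : Fin n → F) :
    eu σ J s u w *ᵥ x = x + (s * bf σ J x w) • u - (σ s * bf σ J x u) • w := by
  rw [eu, sub_mulVec, add_mulVec, one_mulVec, smul_mulVec, smul_mulVec, vmv_mulVec, vmv_mulVec,
    fl_dot, fl_dot, smul_smul, smul_smul]

theorem tu_zero (v : Fin n → F) : tu σ J 0 v = 1 := by rw [tu, tvm_zero]

theorem eu_zero (u w : Fin n → F) : eu σ J 0 u w = 1 := by
  rw [eu, map_zero, zero_smul, zero_smul, add_zero, sub_zero]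

theorem tu_mul_tu (a b : F) (v : Fin n → F) (hv : bf σ J v v = 0) :
    tu σ J a v * tu σ J b v = tu σ J (a + b) v := tvm_mul_tvm a b v _ hv

/-- `tu a (c v) = tu (a c σ(c)) v` -/
theorem tu_smul (a c : F) (v : Fin n → F) : tu σ J a (c • v) = tu σ J (a * (c * σ c)) v := by
  rw [tu, tu, fl_smul, tvm_smul_left, tvm_smul_right]
  congr 1
  ring

theorem eu_smul_left (s c : F) (u w : Fin n → F) : eu σ J s (c • u) w = eu σ J (s * c) u w := by
  simp only [eu, fl_smul, map_mul]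
  congr 1
  · congr 1
    ext i j
    simp only [Matrix.smul_apply, vecMulVec_apply, Pi.smul_apply, smul_eq_mul]
    ring
  · ext i j
    simp only [Matrix.smul_apply, vecMulVec_apply, Pi.smul_apply, smul_eq_mul]
    ring

theorem eu_smul_right (hinv : ∀ a, σ (σ a) = a) (s c : F) (u w : Fin n → F) :
    eu σ J s u (c • w) = eu σ J (s * σ c) u w := by
  simp only [eu, fl_smul, map_mul, hinv]
  congr 1
  · congr 1
    ext i j
    simp only [Matrix.smul_apply, vecMulVec_apply, Pi.smul_apply, smul_eq_mul]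
    ring
  · ext i j
    simp only [Matrix.smul_apply, vecMulVec_apply, Pi.smul_apply, smul_eq_mul]
    ring

/-- swapping the two vectors -/
theorem eu_swap (hinv : ∀ a, σ (σ a) = a) (s : F) (u w : Fin n → F) :
    eu σ J s u w = eu σ J (-σ s) w u := by
  simp only [eu, map_neg, hinv, neg_smul]
  abel

theorem eu_mul_eu (hinv : ∀ a, σ (σ a) = a) (hJ : ∀ i j, J j i = σ (J i j)) (s t : F)
    (u w : Fin n → F) (hu : bf σ J u u = 0) (hw : bf σ J w w = 0) (huw : bf σ J u w = 0) :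
    eu σ J s u w * eu σ J t u w = eu σ J (s + t) u w := by
  have hwu : bf σ J w u = 0 := by rw [bf_symm hinv hJ, huw, map_zero]
  simp only [eu, map_add]
  simp only [mul_add, add_mul, mul_sub, sub_mul, mul_one, one_mul, smul_mul_smul_comm, vmv_mul,
    fl_dot, hu, hw, huw, hwu, zero_smul, smul_zero, add_zero, sub_zero, add_smul]
  abel

/-! ## isometries -/

theorem IsoU.one : IsoU σ J (1 : Matrix (Fin n) (Fin n) F) := by
  intro x y; rw [one_mulVec, one_mulVec]

theorem IsoU.mul {A B : Matrix (Fin n) (Fin n) F} (hA : IsoU σ J A) (hB : IsoU σ J B) :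
    IsoU σ J (A * B) := by
  intro x y
  rw [← mulVec_mulVec, ← mulVec_mulVec, hA, hB]

theorem IsoU.of_mul_eq_one {A B : Matrix (Fin n) (Fin n) F} (hA : IsoU σ J A) (hAB : A * B = 1) :
    IsoU σ J B := by
  intro x y
  rw [← hA (B *ᵥ x) (B *ᵥ y), mulVec_mulVec, mulVec_mulVec, hAB, one_mulVec, one_mulVec]

theorem IsoU.inv {g : GL (Fin n) F} (hg : IsoU σ J (g : Matrix (Fin n) (Fin n) F)) :
    IsoU σ J ((g⁻¹ : GL (Fin n) F) : Matrix (Fin n) (Fin n) F) := by
  apply hg.of_mul_eq_one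
  rw [← Units.val_mul, mul_inv_cancel, Units.val_one]

/-- the functional of the image vector -/
theorem IsoU.fl_vecMul {A : Matrix (Fin n) (Fin n) F} (hA : IsoU σ J A) (v : Fin n → F) :
    fl σ J (A *ᵥ v) ᵥ* A = fl σ J v := by
  ext i
  have := hA (Pi.single i 1) v
  rw [bf, bf, dotProduct_mulVec, dotProduct_single, dotProduct_single, mul_one, mul_one] at this
  exact this

theorem IsoU.fl_vecMul_inv {g : GL (Fin n) F} (hg : IsoU σ J (g : Matrix (Fin n) (Fin n) F))
    (v : Fin n → F) :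
    fl σ J v ᵥ* ((g⁻¹ : GL (Fin n) F) : Matrix (Fin n) (Fin n) F) =
      fl σ J ((g : Matrix (Fin n) (Fin n) F) *ᵥ v) := by
  have h1 : (g : Matrix (Fin n) (Fin n) F) * ((g⁻¹ : GL (Fin n) F) : Matrix (Fin n) (Fin n) F) = 1 := by
    rw [← Units.val_mul, mul_inv_cancel, Units.val_one]
  rw [← hg.fl_vecMul v, vecMul_vecMul, h1, vecMul_one]

/-- conjugating a long root element by an isometry -/
theorem conj_tu {g : GL (Fin n) F} (hg : IsoU σ J (g : Matrix (Fin n) (Fin n) F)) (a : F)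
    (v : Fin n → F) :
    (g : Matrix (Fin n) (Fin n) F) * tu σ J a v * ((g⁻¹ : GL (Fin n) F) : Matrix (Fin n) (Fin n) F) =
      tu σ J a ((g : Matrix (Fin n) (Fin n) F) *ᵥ v) := by
  rw [tu, conj_tvm, hg.fl_vecMul_inv, tu]

/-- conjugating a short root element by an isometry -/
theorem conj_eu {g : GL (Fin n) F} (hg : IsoU σ J (g : Matrix (Fin n) (Fin n) F)) (s : F)
    (u w : Fin n → F) :
    (g : Matrix (Fin n) (Fin n) F) * eu σ J s u w *
        ((g⁻¹ : GL (Fin n) F) : Matrix (Fin n) (Fin n) F) =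
      eu σ J s ((g : Matrix (Fin n) (Fin n) F) *ᵥ u) ((g : Matrix (Fin n) (Fin n) F) *ᵥ w) := by
  have h1 : (g : Matrix (Fin n) (Fin n) F) * ((g⁻¹ : GL (Fin n) F) : Matrix (Fin n) (Fin n) F) = 1 := by
    rw [← Units.val_mul, mul_inv_cancel, Units.val_one]
  simp only [eu]
  rw [mul_sub, mul_add, sub_mul, add_mul, mul_one, h1, Matrix.mul_smul, Matrix.smul_mul,
    Matrix.mul_smul, Matrix.smul_mul, mul_vecMulVec, vecMulVec_mul, mul_vecMulVec, vecMulVec_mul,
    hg.fl_vecMul_inv, hg.fl_vecMul_inv]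

/-- a long root element is an isometry -/
theorem isoU_tu (hinv : ∀ a, σ (σ a) = a) (hJ : ∀ i j, J j i = σ (J i j)) {a : F} (ha : σ a = -a)
    {v : Fin n → F} (hv : bf σ J v v = 0) : IsoU σ J (tu σ J a v) := by
  intro x y
  rw [tu_mulVec, tu_mulVec, bf_add_left, bf_add_right, bf_add_right, bf_smul_left, bf_smul_left,
    bf_smul_right, bf_smul_right, hv, map_mul, ha, bf_symm hinv hJ y v]
  ring

/-- a short root element is an isometry -/
theorem isoU_eu (hinv : ∀ a, σ (σ a) = a) (hJ : ∀ i j, J j i = σ (J i j)) (s : F)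
    {u w : Fin n → F} (hu : bf σ J u u = 0) (hw : bf σ J w w = 0) (huw : bf σ J u w = 0) :
    IsoU σ J (eu σ J s u w) := by
  have hwu : bf σ J w u = 0 := by rw [bf_symm hinv hJ, huw, map_zero]
  intro x y
  rw [eu_mulVec, eu_mulVec]
  simp only [bf_add_left, bf_add_right, bf_sub_left, bf_sub_right, bf_smul_left, bf_smul_right,
    hu, hw, huw, hwu, map_mul, hinv, mul_zero, add_zero, sub_zero]
  rw [bf_symm hinv hJ y w, bf_symm hinv hJ y u]
  ring

theorem det_tu (a : F) {v : Fin n → F} (hv : bf σ J v v = 0) : (tu σ J a v).det = 1 := by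
  rw [tu, det_tvm, fl_dot, hv, mul_zero, add_zero]

/-- a short root element is a product of two transvections -/
theorem eu_eq_mul (s : F) {u w : Fin n → F} (hw : bf σ J w w = 0) :
    eu σ J s u w = tvm s u (fl σ J w) * tvm (-σ s) w (fl σ J u) := by
  simp only [eu, tvm]
  rw [add_mul, mul_add, mul_add, one_mul, mul_one, one_mul, smul_mul_smul_comm, vmv_mul, fl_dot, hw,
    zero_smul, smul_zero, add_zero, neg_smul]
  abel

theorem det_eu (hinv : ∀ a, σ (σ a) = a) (hJ : ∀ i j, J j i = σ (J i j)) (s : F)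
    {u w : Fin n → F} (hw : bf σ J w w = 0) (huw : bf σ J u w = 0) :
    (eu σ J s u w).det = 1 := by
  have hwu : bf σ J w u = 0 := by rw [bf_symm hinv hJ, huw, map_zero]
  rw [eu_eq_mul s hw, det_mul, det_tvm, det_tvm, fl_dot, fl_dot, huw, hwu, mul_zero, mul_zero,
    add_zero, mul_one]

/-- the inverse of a long root element -/
theorem tu_mul_neg (a : F) {v : Fin n → F} (hv : bf σ J v v = 0) :
    tu σ J a v * tu σ J (-a) v = 1 := by
  rw [tu_mul_tu a (-a) v hv, add_neg_cancel, tu_zero]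

/-- the inverse of a short root element -/
theorem eu_mul_neg (hinv : ∀ a, σ (σ a) = a) (hJ : ∀ i j, J j i = σ (J i j)) (s : F)
    {u w : Fin n → F} (hu : bf σ J u u = 0) (hw : bf σ J w w = 0) (huw : bf σ J u w = 0) :
    eu σ J s u w * eu σ J (-s) u w = 1 := by
  rw [eu_mul_eu hinv hJ s (-s) u w hu hw huw, add_neg_cancel, eu_zero]

/-- rationality of the root elements -/
theorem USet.ratMat_tu {F₀ : Subfield F} (hU : USet F₀ σ J) {a : F} (ha : a ∈ F₀) {v : Fin n → F}
    (hv : Rat F₀ v) : RatMat F₀ (tu σ J a v) := ratMat_tvm ha hv (hU.rat_fl hv)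

theorem USet.ratMat_eu {F₀ : Subfield F} (hU : USet F₀ σ J) {s : F} (hs : s ∈ F₀) {u w : Fin n → F}
    (hu : Rat F₀ u) (hw : Rat F₀ w) : RatMat F₀ (eu σ J s u w) := by
  intro i j
  rw [eu, Matrix.sub_apply, Matrix.add_apply, Matrix.smul_apply, Matrix.smul_apply, vecMulVec_apply,
    vecMulVec_apply]
  exact F₀.sub_mem (F₀.add_mem (RatMat.one F₀ i j)
    (F₀.mul_mem hs (F₀.mul_mem (hu i) (hU.rat_fl hw j))))
    (F₀.mul_mem (hU.stable _ hs) (F₀.mul_mem (hw i) (hU.rat_fl hu j)))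

/-- the root elements as elements of `GL` -/
theorem exists_gl_tu (a : F) {v : Fin n → F} (hv : bf σ J v v = 0) :
    ∃ g : GL (Fin n) F, (g : Matrix (Fin n) (Fin n) F) = tu σ J a v :=
  ⟨⟨tu σ J a v, tu σ J (-a) v, tu_mul_neg a hv, by
    have := tu_mul_neg (σ := σ) (J := J) (-a) hv
    rwa [neg_neg] at this⟩, rfl⟩

theorem exists_gl_eu (hinv : ∀ a, σ (σ a) = a) (hJ : ∀ i j, J j i = σ (J i j)) (s : F)
    {u w : Fin n → F} (hu : bf σ J u u = 0) (hw : bf σ J w w = 0) (huw : bf σ J u w = 0) :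
    ∃ g : GL (Fin n) F, (g : Matrix (Fin n) (Fin n) F) = eu σ J s u w :=
  ⟨⟨eu σ J s u w, eu σ J (-s) u w, eu_mul_neg hinv hJ s hu hw huw, by
    have := eu_mul_neg hinv hJ (-s) hu hw huw
    rwa [neg_neg] at this⟩, rfl⟩

/-- the rational root elements lie in `M` -/
theorem HasRatIso.mm_tu {F₀ : Subfield F} (hU : USet F₀ σ J) {M : Subgroup (GL (Fin n) F)}
    (hM : HasRatIso F₀ σ J M) {a : F} (ha : a ∈ F₀) (haσ : σ a = -a) {v : Fin n → F}
    (hv : Rat F₀ v) (hvv : bf σ J v v = 0) : Mm M (tu σ J a v) := by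
  obtain ⟨g, hg⟩ := exists_gl_tu (σ := σ) (J := J) a hvv
  refine ⟨g, hM g ?_ ?_ ?_, hg⟩
  · rw [hg]; exact hU.ratMat_tu ha hv
  · rw [hg]; exact isoU_tu hU.invol hU.herm haσ hvv
  · rw [hg]; exact det_tu a hvv

theorem HasRatIso.mm_eu {F₀ : Subfield F} (hU : USet F₀ σ J) {M : Subgroup (GL (Fin n) F)}
    (hM : HasRatIso F₀ σ J M) {s : F} (hs : s ∈ F₀) {u w : Fin n → F}
    (hu : Rat F₀ u) (hw : Rat F₀ w) (huu : bf σ J u u = 0) (hww : bf σ J w w = 0)
    (huw : bf σ J u w = 0) : Mm M (eu σ J s u w) := by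
  obtain ⟨g, hg⟩ := exists_gl_eu hU.invol hU.herm s huu hww huw
  refine ⟨g, hM g ?_ ?_ ?_, hg⟩
  · rw [hg]; exact hU.ratMat_eu hs hu hw
  · rw [hg]; exact isoU_eu hU.invol hU.herm s huu hww huw
  · rw [hg]; exact det_eu hU.invol hU.herm s hww huw

/-- conjugation inside `M` -/
theorem mm_conj_tu {M : Subgroup (GL (Fin n) F)} {g : GL (Fin n) F} (hg : g ∈ M)
    (hgi : IsoU σ J (g : Matrix (Fin n) (Fin n) F)) {a : F} {v : Fin n → F}
    (h : Mm M (tu σ J a v)) : Mm M (tu σ J a ((g : Matrix (Fin n) (Fin n) F) *ᵥ v)) := by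
  rw [← conj_tu hgi]; exact h.conj hg

theorem mm_conj_eu {M : Subgroup (GL (Fin n) F)} {g : GL (Fin n) F} (hg : g ∈ M)
    (hgi : IsoU σ J (g : Matrix (Fin n) (Fin n) F)) {s : F} {u w : Fin n → F}
    (h : Mm M (eu σ J s u w)) :
    Mm M (eu σ J s ((g : Matrix (Fin n) (Fin n) F) *ᵥ u) ((g : Matrix (Fin n) (Fin n) F) *ᵥ w)) := by
  rw [← conj_eu hgi]; exact h.conj hg

end Cfsg.Agent.Lib.Helper5.SUf
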