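import Mathlib
import Cfsg.Agent.Lib.Helper5.SUf.Basic

set_option autoImplicit false

/-!
# S5658: the commutator relations between long and short root elements
-/

namespace Cfsg.Agent.Lib.Helper5.SUf

open Matrix Cfsg.Agent.Lib.Helper7.Subf

variable {F : Type*} [Field F] {n : ℕ} {σ : F ≃+* F} {J : Matrix (Fin n) (Fin n) F}

/-- the commutator of `1 + A` and `1 + B` when `A² = B² = 0` -/
theorem mm_comm_sq {M : Subgroup (GL (Fin n) F)} {A B : Matrix (Fin n) (Fin n) F}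
    (hA : A * A = 0) (hB : B * B = 0) (h1 : Mm M (1 + A)) (h2 : Mm M (1 + B)) :
    Mm M (1 + A * B - B * A + B * A * B - A * B * A + A * B * A * B) := by
  have i1 : Mm M (1 - A) := h1.inv_of_mul_eq_one (by
    rw [mul_sub, add_mul, add_mul, one_mul, mul_one, one_mul, hA]; abel)
  have i2 : Mm M (1 - B) := h2.inv_of_mul_eq_one (by
    rw [mul_sub, add_mul, add_mul, one_mul, mul_one, one_mul, hB]; abel)
  have h := ((h1.mul h2).mul i1).mul i2
  have e : (1 + A) * (1 + B) * (1 - A) * (1 - B) =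
      1 + A * B - B * A + B * A * B - A * B * A + A * B * A * B := by
    have hAA' : ∀ X : Matrix (Fin n) (Fin n) F, A * (A * X) = 0 := by
      intro X; rw [← mul_assoc, hA, zero_mul]
    have hBB' : ∀ X : Matrix (Fin n) (Fin n) F, B * (B * X) = 0 := by
      intro X; rw [← mul_assoc, hB, zero_mul]
    simp only [add_mul, mul_add, mul_sub, sub_mul, one_mul, mul_one, mul_assoc, hA, hB, hAA', hBB',
      mul_zero, zero_mul, sub_zero, add_zero]
    abel
  rwa [e] at h

/-- the nilpotent part of a short root element -/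
def xe (σ : F ≃+* F) (J : Matrix (Fin n) (Fin n) F) (s : F) (u w : Fin n → F) :
    Matrix (Fin n) (Fin n) F :=
  s • vecMulVec u (fl σ J w) - σ s • vecMulVec w (fl σ J u)

theorem eu_eq_one_add_xe (s : F) (u w : Fin n → F) : eu σ J s u w = 1 + xe σ J s u w := by
  rw [eu, xe, add_sub_assoc]

theorem tu_eq_one_add (a : F) (v : Fin n → F) :
    tu σ J a v = 1 + a • vecMulVec v (fl σ J v) := rfl

/-- the product of two nilpotent parts -/
theorem xe_mul_xe (s t : F) (u w u' w' : Fin n → F) :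
    xe σ J s u w * xe σ J t u' w' =
      (s * t * bf σ J u' w) • vecMulVec u (fl σ J w') - (s * σ t * bf σ J w' w) • vecMulVec u (fl σ J u')
        - (σ s * t * bf σ J u' u) • vecMulVec w (fl σ J w')
        + (σ s * σ t * bf σ J w' u) • vecMulVec w (fl σ J u') := by
  simp only [xe, sub_mul, mul_sub, smul_mul_smul_comm, vmv_mul, fl_dot, smul_smul]
  abel

theorem vmv_mul_xe (t : F) (v φ u' w' : Fin n → F) :
    vecMulVec v φ * xe σ J t u' w' =
      (t * (φ ⬝ᵥ u')) • vecMulVec v (fl σ J w') - (σ t * (φ ⬝ᵥ w')) • vecMulVec v (fl σ J u') := by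
  simp only [xe, mul_sub, Matrix.mul_smul, vmv_mul, smul_smul]

theorem xe_mul_vmv (s : F) (u w v φ : Fin n → F) :
    xe σ J s u w * vecMulVec v φ =
      (s * bf σ J v w) • vecMulVec u φ - (σ s * bf σ J v u) • vecMulVec w φ := by
  simp only [xe, sub_mul, Matrix.smul_mul, vmv_mul, fl_dot, smul_smul]

/-- **C1** (type `A₂`): `[E_{u,w}(s), E_{u',w'}(t)] = E_{u,w'}(s t ⟨u',w⟩)` -/
theorem mm_comm_ee (hinv : ∀ a, σ (σ a) = a) (hJ : ∀ i j, J j i = σ (J i j))
    {M : Subgroup (GL (Fin n) F)} {s t : F} {u w u' w' : Fin n → F}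
    (huu : bf σ J u u = 0) (hww : bf σ J w w = 0) (huw : bf σ J u w = 0)
    (hu'u' : bf σ J u' u' = 0) (hw'w' : bf σ J w' w' = 0) (hu'w' : bf σ J u' w' = 0)
    (hw'w : bf σ J w' w = 0) (hu'u : bf σ J u' u = 0) (hw'u : bf σ J w' u = 0)
    (h1 : Mm M (eu σ J s u w)) (h2 : Mm M (eu σ J t u' w')) :
    Mm M (eu σ J (s * t * bf σ J u' w) u w') := by
  have sy : ∀ {x y : Fin n → F}, bf σ J x y = 0 → bf σ J y x = 0 := by
    intro x y h; rw [bf_symm hinv hJ, h, map_zero]
  have hwu := sy huw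
  have hw'u' := sy hu'w'
  have hww' := sy hw'w
  have huu' := sy hu'u
  have huw' := sy hw'u
  have hwu' : bf σ J w u' = σ (bf σ J u' w) := bf_symm hinv hJ u' w
  rw [eu_eq_one_add_xe] at h1 h2
  have hA : xe σ J s u w * xe σ J s u w = 0 := by
    rw [xe_mul_xe]; simp only [huu, hww, huw, hwu, mul_zero, zero_smul]; abel
  have hB : xe σ J t u' w' * xe σ J t u' w' = 0 := by
    rw [xe_mul_xe]; simp only [hu'u', hw'w', hu'w', hw'u', mul_zero, zero_smul]; abel
  have hAB : xe σ J s u w * xe σ J t u' w' =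
      (s * t * bf σ J u' w) • vecMulVec u (fl σ J w') := by
    rw [xe_mul_xe]; simp only [hw'w, hu'u, hw'u, mul_zero, zero_smul]; abel
  have hBA : xe σ J t u' w' * xe σ J s u w =
      (σ t * σ s * σ (bf σ J u' w)) • vecMulVec w' (fl σ J u) := by
    rw [xe_mul_xe]; simp only [huw', hww', huu', hwu', mul_zero, zero_smul]; abel
  have hBAB : xe σ J t u' w' * xe σ J s u w * xe σ J t u' w' = 0 := by
    rw [hBA, Matrix.smul_mul, vmv_mul_xe, fl_dot, fl_dot, hu'u, hw'u]; simp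
  have hABA : xe σ J s u w * xe σ J t u' w' * xe σ J s u w = 0 := by
    rw [hAB, Matrix.smul_mul, vmv_mul_xe, fl_dot, fl_dot, huw', hww']; simp
  have h := mm_comm_sq hA hB h1 h2
  rw [hBAB, hABA, zero_mul, hAB, hBA] at h
  rw [eu_eq_one_add_xe, xe]
  convert h using 1
  simp only [map_mul]
  rw [add_zero, sub_zero, add_zero, add_sub_assoc]
  congr 2
  congr 1
  ring

/-- **C2**: `[E_{u,w}(s), E_{u,w'}(t)] = T_u(t σ(s) σ(μ) - s σ(t) μ)`, `μ = ⟨w',w⟩` -/
theorem mm_comm_ee_long (hinv : ∀ a, σ (σ a) = a) (hJ : ∀ i j, J j i = σ (J i j))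
    {M : Subgroup (GL (Fin n) F)} {s t : F} {u w w' : Fin n → F}
    (huu : bf σ J u u = 0) (hww : bf σ J w w = 0) (huw : bf σ J u w = 0)
    (hw'w' : bf σ J w' w' = 0) (huw' : bf σ J u w' = 0)
    (h1 : Mm M (eu σ J s u w)) (h2 : Mm M (eu σ J t u w')) :
    Mm M (tu σ J (t * σ s * σ (bf σ J w' w) - s * σ t * bf σ J w' w) u) := by
  have sy : ∀ {x y : Fin n → F}, bf σ J x y = 0 → bf σ J y x = 0 := by
    intro x y h; rw [bf_symm hinv hJ, h, map_zero]
  have hwu := sy huw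
  have hw'u := sy huw'
  have hww' : bf σ J w w' = σ (bf σ J w' w) := bf_symm hinv hJ w' w
  rw [eu_eq_one_add_xe] at h1 h2
  have hA : xe σ J s u w * xe σ J s u w = 0 := by
    rw [xe_mul_xe]; simp only [huu, hww, huw, hwu, mul_zero, zero_smul]; abel
  have hB : xe σ J t u w' * xe σ J t u w' = 0 := by
    rw [xe_mul_xe]; simp only [huu, hw'w', huw', hw'u, mul_zero, zero_smul]; abel
  have hAB : xe σ J s u w * xe σ J t u w' =
      (-(s * σ t * bf σ J w' w)) • vecMulVec u (fl σ J u) := by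
    rw [xe_mul_xe]; simp only [huw, huu, hw'u, mul_zero, zero_smul, neg_smul]; abel
  have hBA : xe σ J t u w' * xe σ J s u w =
      (-(t * σ s * σ (bf σ J w' w))) • vecMulVec u (fl σ J u) := by
    rw [xe_mul_xe]; simp only [huw', huu, hwu, hww', mul_zero, zero_smul, neg_smul]; abel
  have hBAB : xe σ J t u w' * xe σ J s u w * xe σ J t u w' = 0 := by
    rw [hBA, Matrix.smul_mul, vmv_mul_xe, fl_dot, fl_dot, huu, hw'u]; simp
  have hABA : xe σ J s u w * xe σ J t u w' * xe σ J s u w = 0 := by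
    rw [hAB, Matrix.smul_mul, vmv_mul_xe, fl_dot, fl_dot, huu, hwu]; simp
  have h := mm_comm_sq hA hB h1 h2
  rw [hBAB, hABA, zero_mul, hAB, hBA] at h
  rw [tu_eq_one_add]
  convert h using 1
  rw [add_zero, sub_zero, add_zero, add_sub_assoc, ← sub_smul]
  congr 2
  ring

/-- **C4**: `[E_{w,z}(c), E_{u',z'}(s')] = E_{z,z'}(-σ(c) s' ⟨u',w⟩)` -/
theorem mm_comm_ee2 (hinv : ∀ a, σ (σ a) = a) (hJ : ∀ i j, J j i = σ (J i j))
    {M : Subgroup (GL (Fin n) F)} {c s' : F} {w z u' z' : Fin n → F}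
    (hww : bf σ J w w = 0) (hzz : bf σ J z z = 0) (hwz : bf σ J w z = 0)
    (hu'u' : bf σ J u' u' = 0) (hz'z' : bf σ J z' z' = 0) (hu'z' : bf σ J u' z' = 0)
    (hz'w : bf σ J z' w = 0) (hz'z : bf σ J z' z = 0) (hu'z : bf σ J u' z = 0)
    (h1 : Mm M (eu σ J c w z)) (h2 : Mm M (eu σ J s' u' z')) :
    Mm M (eu σ J (-(σ c * s' * bf σ J u' w)) z z') := by
  have sy : ∀ {x y : Fin n → F}, bf σ J x y = 0 → bf σ J y x = 0 := by
    intro x y h; rw [bf_symm hinv hJ, h, map_zero]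
  have hzw := sy hwz
  have hz'u' := sy hu'z'
  have hwz' := sy hz'w
  have hzz' := sy hz'z
  have hzu' := sy hu'z
  have hwu' : bf σ J w u' = σ (bf σ J u' w) := bf_symm hinv hJ u' w
  rw [eu_eq_one_add_xe] at h1 h2
  have hA : xe σ J c w z * xe σ J c w z = 0 := by
    rw [xe_mul_xe]; simp only [hww, hzz, hwz, hzw, mul_zero, zero_smul]; abel
  have hB : xe σ J s' u' z' * xe σ J s' u' z' = 0 := by
    rw [xe_mul_xe]; simp only [hu'u', hz'z', hu'z', hz'u', mul_zero, zero_smul]; abel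
  have hAB : xe σ J c w z * xe σ J s' u' z' =
      (-(σ c * s' * bf σ J u' w)) • vecMulVec z (fl σ J z') := by
    rw [xe_mul_xe]; simp only [hu'z, hz'z, hz'w, mul_zero, zero_smul, neg_smul]; abel
  have hBA : xe σ J s' u' z' * xe σ J c w z =
      (-(σ s' * c * σ (bf σ J u' w))) • vecMulVec z' (fl σ J z) := by
    rw [xe_mul_xe]; simp only [hwz', hzz', hwu', hzu', mul_zero, zero_smul, neg_smul]; abel
  have hBAB : xe σ J s' u' z' * xe σ J c w z * xe σ J s' u' z' = 0 := by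
    rw [hBA, Matrix.smul_mul, vmv_mul_xe, fl_dot, fl_dot, hu'z, hz'z]; simp
  have hABA : xe σ J c w z * xe σ J s' u' z' * xe σ J c w z = 0 := by
    rw [hAB, Matrix.smul_mul, vmv_mul_xe, fl_dot, fl_dot, hwz', hzz']; simp
  have h := mm_comm_sq hA hB h1 h2
  rw [hBAB, hABA, zero_mul, hAB, hBA] at h
  rw [eu_eq_one_add_xe, xe]
  convert h using 1
  simp only [map_mul, map_neg, hinv]
  rw [add_zero, sub_zero, add_zero, add_sub_assoc]
  congr 2
  congr 1
  ring

/-- **C3**: `[T_v(a), E_{u,z}(s)] = E_{v,z}(a s μ) T_z(-a (sμ) σ(sμ))`, `μ = ⟨u,v⟩`, `z ⊥ v` -/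
theorem mm_comm_te (hinv : ∀ a, σ (σ a) = a) (hJ : ∀ i j, J j i = σ (J i j))
    {M : Subgroup (GL (Fin n) F)} {a s : F} (ha : σ a = -a) {v u z : Fin n → F}
    (hvv : bf σ J v v = 0) (huu : bf σ J u u = 0) (hzz : bf σ J z z = 0) (huz : bf σ J u z = 0)
    (hzv : bf σ J z v = 0)
    (h1 : Mm M (tu σ J a v)) (h2 : Mm M (eu σ J s u z)) :
    Mm M (eu σ J (a * s * bf σ J u v) v z *
      tu σ J (-(a * (s * bf σ J u v) * σ (s * bf σ J u v))) z) := by
  have sy : ∀ {x y : Fin n → F}, bf σ J x y = 0 → bf σ J y x = 0 := by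
    intro x y h; rw [bf_symm hinv hJ, h, map_zero]
  have hzu := sy huz
  have hvz := sy hzv
  have hvu : bf σ J v u = σ (bf σ J u v) := bf_symm hinv hJ u v
  rw [tu_eq_one_add] at h1
  rw [eu_eq_one_add_xe] at h2
  have hA : (a • vecMulVec v (fl σ J v)) * (a • vecMulVec v (fl σ J v)) = 0 := by
    rw [smul_mul_smul_comm, vmv_mul, fl_dot, hvv, zero_smul, smul_zero]
  have hB : xe σ J s u z * xe σ J s u z = 0 := by
    rw [xe_mul_xe]; simp only [huu, hzz, huz, hzu, mul_zero, zero_smul]; abel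
  have hAB : (a • vecMulVec v (fl σ J v)) * xe σ J s u z =
      (a * s * bf σ J u v) • vecMulVec v (fl σ J z) := by
    rw [Matrix.smul_mul, vmv_mul_xe, fl_dot, fl_dot, hzv, mul_zero, zero_smul, sub_zero, smul_smul]
    congr 1; ring
  have hBA : xe σ J s u z * (a • vecMulVec v (fl σ J v)) =
      (-(a * σ s * σ (bf σ J u v))) • vecMulVec z (fl σ J v) := by
    rw [Matrix.mul_smul, xe_mul_vmv, hvz, hvu, mul_zero, zero_smul, zero_sub, smul_neg, smul_smul,
      neg_smul]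
    congr 2; ring
  have hBAB : xe σ J s u z * (a • vecMulVec v (fl σ J v)) * xe σ J s u z =
      (-(a * (s * bf σ J u v) * σ (s * bf σ J u v))) • vecMulVec z (fl σ J z) := by
    rw [hBA, Matrix.smul_mul, vmv_mul_xe, fl_dot, fl_dot, hzv, mul_zero, zero_smul, sub_zero,
      smul_smul, map_mul]
    congr 1; ring
  have hABA : (a • vecMulVec v (fl σ J v)) * xe σ J s u z * (a • vecMulVec v (fl σ J v)) = 0 := by
    rw [hAB, smul_mul_smul_comm, vmv_mul, fl_dot, hvz, zero_smul, smul_zero]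
  have h := mm_comm_sq hA hB h1 h2
  rw [hBAB, hABA, zero_mul, hAB, hBA] at h
  convert h using 1
  rw [eu_eq_one_add_xe, xe, tu_eq_one_add]
  simp only [map_mul, ha]
  rw [add_mul, mul_add, mul_add, one_mul, mul_one, one_mul, sub_mul, smul_mul_smul_comm,
    smul_mul_smul_comm, vmv_mul, vmv_mul, fl_dot, fl_dot, hzz, hzv]
  simp only [neg_smul, neg_mul, zero_smul, smul_zero, sub_zero, add_zero, sub_neg_eq_add]
  abel

end Cfsg.Agent.Lib.Helper5.SUf
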