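import Mathlib
import Cfsg.Agent.Lib.Helper5.SUf.Comm
import Cfsg.Agent.Lib.Helper3.Subf_N

set_option autoImplicit false

/-!
# S5658: the vocabulary of the packages

`HasNIso` (the group `M` contains `N ∩ SU`), `LRat` (the long root elements of `M` at rational isotropic
vectors are rational), `AllRoot` (`M` contains all root elements at rational points), `NKU`
(the "no kernel" property of the elements of `M` outside `N`).
-/

namespace Cfsg.Agent.Lib.Helper5.SUf

open Matrix Cfsg.Agent.Lib.Helper7.Subf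

variable {F : Type*} [Field F] {n : ℕ}

/-- `M` contains the special isometries lying in `N` (the scalar multiples of rational matrices) -/
def HasNIso (F₀ : Subfield F) (σ : F ≃+* F) (J : Matrix (Fin n) (Fin n) F)
    (M : Subgroup (GL (Fin n) F)) : Prop :=
  ∀ g : GL (Fin n) F, InN F₀ (g : Matrix (Fin n) (Fin n) F) →
    IsoU σ J (g : Matrix (Fin n) (Fin n) F) → (g : Matrix (Fin n) (Fin n) F).det = 1 → g ∈ M

theorem HasNIso.hasRatIso {F₀ : Subfield F} {σ : F ≃+* F} {J : Matrix (Fin n) (Fin n) F}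
    {M : Subgroup (GL (Fin n) F)} (h : HasNIso F₀ σ J M) : HasRatIso F₀ σ J M := by
  intro g hg hi hd
  exact h g ⟨1, one_ne_zero, by rw [one_smul]; exact hg⟩ hi hd

/-- **(LR)** the long root elements of `M` at rational isotropic vectors have rational coefficients -/
def LRat (F₀ : Subfield F) (σ : F ≃+* F) (J : Matrix (Fin n) (Fin n) F)
    (M : Subgroup (GL (Fin n) F)) : Prop :=
  ∀ (a : F) (v : Fin n → F), σ a = -a → Rat F₀ v → v ≠ 0 → bf σ J v v = 0 →
    Mm M (tu σ J a v) → a ∈ F₀

/-- `M` contains all the root elements at rational points, with arbitrary coefficients -/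
def AllRoot (F₀ : Subfield F) (σ : F ≃+* F) (J : Matrix (Fin n) (Fin n) F)
    (M : Subgroup (GL (Fin n) F)) : Prop :=
  (∀ (s : F) (u w : Fin n → F), TIP F₀ σ J u w → Mm M (eu σ J s u w)) ∧
  (∀ (a : F) (v : Fin n → F), σ a = -a → Rat F₀ v → bf σ J v v = 0 → Mm M (tu σ J a v))

/-- an element of `M` outside `N` maps no rational isotropic vector to a vector orthogonal to a rational
isotropic vector -/
def NKU (F₀ : Subfield F) (σ : F ≃+* F) (J : Matrix (Fin n) (Fin n) F)
    (M : Subgroup (GL (Fin n) F)) : Prop :=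
  ∀ g ∈ M, ¬ InN F₀ (g : Matrix (Fin n) (Fin n) F) → ∀ v u : Fin n → F, Rat F₀ v → Rat F₀ u →
    v ≠ 0 → u ≠ 0 → bf σ J v v = 0 → bf σ J u u = 0 →
    bf σ J ((g : Matrix (Fin n) (Fin n) F) *ᵥ v) u ≠ 0

end Cfsg.Agent.Lib.Helper5.SUf
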