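import Mathlib
import Cfsg.Agent.Lib.Helper9.SUf_Geo1
import Cfsg.Agent.Lib.Lead.SUf_Field

set_option autoImplicit false

/-!
# S5658, package PK-GEO2: elementary consequences of `exists_hyp_perp` and `tip_trans`
-/

namespace Cfsg.Agent.Lib.Helper5.SUf

open Matrix Cfsg.Agent.Lib.Helper7 Cfsg.Agent.Lib.Helper7.Subf

variable {F : Type*} [Field F] {n : ℕ} {F₀ : Subfield F} {σ : F ≃+* F}
  {J : Matrix (Fin n) (Fin n) F}

theorem Indep.symm {u w : Fin n → F} (h : Indep u w) : Indep w u := by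
  obtain ⟨i, j, hij⟩ := h
  refine ⟨j, i, ?_⟩
  intro h0
  apply hij
  linear_combination h0

theorem indep_of_bf {u w z : Fin n → F} (hu0 : u ≠ 0) (huz : bf σ J u z = 0)
    (hwz : bf σ J w z ≠ 0) : Indep u w := by
  by_contra hcon
  unfold Indep at hcon
  push Not at hcon
  obtain ⟨i₀, hi₀⟩ : ∃ i, u i ≠ 0 := by
    by_contra h
    push Not at h
    exact hu0 (funext h)
  have hw : w = (w i₀ / u i₀) • u := by
    ext j
    rw [Pi.smul_apply, smul_eq_mul]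
    have := hcon i₀ j
    field_simp
    linear_combination this
  apply hwz
  rw [hw, bf_smul_left, huz, mul_zero]

namespace PkGeo2

/-- a fixed `Fin 5`-family built from two vectors -/
def fam2 (a b : Fin n → F) : Fin 5 → Fin n → F := ![a, b, 0, 0, 0]

theorem rat_fam2 {a b : Fin n → F} (ha : Rat F₀ a) (hb : Rat F₀ b) : ∀ i, Rat F₀ (fam2 a b i) := by
  intro i
  fin_cases i
  · exact ha
  · exact hb
  · exact Subf.Rat.zero F₀
  · exact Subf.Rat.zero F₀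
  · exact Subf.Rat.zero F₀

/-- a fixed `Fin 5`-family built from three vectors -/
def fam3 (a b c : Fin n → F) : Fin 5 → Fin n → F := ![a, b, c, 0, 0]

theorem rat_fam3 {a b c : Fin n → F} (ha : Rat F₀ a) (hb : Rat F₀ b) (hc : Rat F₀ c) :
    ∀ i, Rat F₀ (fam3 a b c i) := by
  intro i
  fin_cases i
  · exact ha
  · exact hb
  · exact hc
  · exact Subf.Rat.zero F₀
  · exact Subf.Rat.zero F₀

/-- a fixed `Fin 5`-family built from four vectors -/
def fam4 (a b c d : Fin n → F) : Fin 5 → Fin n → F := ![a, b, c, d, 0]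

theorem rat_fam4 {a b c d : Fin n → F} (ha : Rat F₀ a) (hb : Rat F₀ b) (hc : Rat F₀ c)
    (hd : Rat F₀ d) : ∀ i, Rat F₀ (fam4 a b c d i) := by
  intro i
  fin_cases i
  · exact ha
  · exact hb
  · exact hc
  · exact hd
  · exact Subf.Rat.zero F₀

/-- hyperbolic pair orthogonal to two rational vectors -/
theorem exists_hyp_perp2 [Finite F] (hn : 13 ≤ n) (hU : USet F₀ σ J) {a b : Fin n → F}
    (ha : Rat F₀ a) (hb : Rat F₀ b) :
    ∃ e f : Fin n → F, Rat F₀ e ∧ Rat F₀ f ∧ bf σ J e e = 0 ∧ bf σ J f f = 0 ∧ bf σ J e f = 1 ∧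
      bf σ J e a = 0 ∧ bf σ J f a = 0 ∧ bf σ J e b = 0 ∧ bf σ J f b = 0 := by
  obtain ⟨e, f, he, hf, hee, hff, hef, h⟩ := exists_hyp_perp hn hU (fam2 a b) (rat_fam2 ha hb)
  exact ⟨e, f, he, hf, hee, hff, hef, (h 0).1, (h 0).2, (h 1).1, (h 1).2⟩

/-- hyperbolic pair orthogonal to three rational vectors -/
theorem exists_hyp_perp3 [Finite F] (hn : 13 ≤ n) (hU : USet F₀ σ J) {a b c : Fin n → F}
    (ha : Rat F₀ a) (hb : Rat F₀ b) (hc : Rat F₀ c) :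
    ∃ e f : Fin n → F, Rat F₀ e ∧ Rat F₀ f ∧ bf σ J e e = 0 ∧ bf σ J f f = 0 ∧ bf σ J e f = 1 ∧
      bf σ J e a = 0 ∧ bf σ J f a = 0 ∧ bf σ J e b = 0 ∧ bf σ J f b = 0 ∧
      bf σ J e c = 0 ∧ bf σ J f c = 0 := by
  obtain ⟨e, f, he, hf, hee, hff, hef, h⟩ :=
    exists_hyp_perp hn hU (fam3 a b c) (rat_fam3 ha hb hc)
  exact ⟨e, f, he, hf, hee, hff, hef, (h 0).1, (h 0).2, (h 1).1, (h 1).2, (h 2).1, (h 2).2⟩

/-- hyperbolic pair orthogonal to four rational vectors -/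
theorem exists_hyp_perp4 [Finite F] (hn : 13 ≤ n) (hU : USet F₀ σ J) {a b c d : Fin n → F}
    (ha : Rat F₀ a) (hb : Rat F₀ b) (hc : Rat F₀ c) (hd : Rat F₀ d) :
    ∃ e f : Fin n → F, Rat F₀ e ∧ Rat F₀ f ∧ bf σ J e e = 0 ∧ bf σ J f f = 0 ∧ bf σ J e f = 1 ∧
      bf σ J e a = 0 ∧ bf σ J f a = 0 ∧ bf σ J e b = 0 ∧ bf σ J f b = 0 ∧
      bf σ J e c = 0 ∧ bf σ J f c = 0 ∧ bf σ J e d = 0 ∧ bf σ J f d = 0 := by
  obtain ⟨e, f, he, hf, hee, hff, hef, h⟩ :=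
    exists_hyp_perp hn hU (fam4 a b c d) (rat_fam4 ha hb hc hd)
  exact ⟨e, f, he, hf, hee, hff, hef, (h 0).1, (h 0).2, (h 1).1, (h 1).2, (h 2).1, (h 2).2,
    (h 3).1, (h 3).2⟩

theorem ne_zero_of_bf_ne {x y : Fin n → F} (h : bf σ J x y ≠ 0) : x ≠ 0 := by
  rintro rfl
  exact h (bf_zero_left y)

theorem bf_single_right (x : Fin n → F) (j : Fin n) :
    bf σ J x (Pi.single j 1) = (x ᵥ* J) j := by
  classical
  rw [bf_eq_sum]
  simp only [vecMul, dotProduct]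
  refine Finset.sum_congr rfl (fun i _ => ?_)
  rw [Finset.sum_eq_single j]
  · rw [Pi.single_eq_same, map_one, mul_one]
  · intro b _ hb
    rw [Pi.single_eq_of_ne hb, map_zero, mul_zero]
  · intro h; exact absurd (Finset.mem_univ j) h

theorem rat_vecMul {v : Fin n → F} (hv : Rat F₀ v) {A : Matrix (Fin n) (Fin n) F}
    (hA : RatMat F₀ A) : Rat F₀ (v ᵥ* A) := by
  intro j
  simp only [vecMul, dotProduct]
  exact F₀.sum_mem (fun i _ => F₀.mul_mem (hv i) (hA i j))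

end PkGeo2

open PkGeo2

theorem rat_of_forall_bf_mem (hU : USet F₀ σ J) {x : Fin n → F}
    (h : ∀ y, Rat F₀ y → bf σ J x y ∈ F₀) : Rat F₀ x := by
  have h1 : Rat F₀ (x ᵥ* J) := by
    intro j
    rw [← bf_single_right]
    exact h _ (Subf.Rat.single F₀ j F₀.one_mem)
  have h2 : x = (x ᵥ* J) ᵥ* J⁻¹ := by
    rw [vecMul_vecMul, Matrix.mul_nonsing_inv J hU.nondeg, vecMul_one]
  rw [h2]
  exact rat_vecMul h1 hU.rat.inv

theorem exists_iso [Finite F] (hn : 13 ≤ n) (hU : USet F₀ σ J) :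
    ∃ v : Fin n → F, Rat F₀ v ∧ v ≠ 0 ∧ bf σ J v v = 0 := by
  obtain ⟨e, f, he, -, hee, -, hef, -⟩ :=
    exists_hyp_perp2 hn hU (Subf.Rat.zero F₀ (n := n)) (Subf.Rat.zero F₀ (n := n))
  refine ⟨e, he, ne_zero_of_bf_ne (σ := σ) (J := J) (y := f) ?_, hee⟩
  rw [hef]
  exact one_ne_zero

theorem exists_tip [Finite F] (hn : 13 ≤ n) (hU : USet F₀ σ J) {v : Fin n → F} (hv : Rat F₀ v)
    (hv0 : v ≠ 0) (hvv : bf σ J v v = 0) : ∃ w, TIP F₀ σ J v w := by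
  obtain ⟨e, f, he, -, hee, -, hef, hev, hfv, -⟩ := exists_hyp_perp2 hn hU hv (Subf.Rat.zero F₀ (n := n))
  refine ⟨e, hv, he, hvv, hee, hU.bf_eq_zero_symm hev, ?_⟩
  refine indep_of_bf (σ := σ) (J := J) (z := f) hv0 (hU.bf_eq_zero_symm hfv) ?_
  rw [hef]
  exact one_ne_zero

theorem iso_trans [Finite F] (hn : 13 ≤ n) (hU : USet F₀ σ J) {v v' : Fin n → F}
    (hv : Rat F₀ v) (hv0 : v ≠ 0) (hvv : bf σ J v v = 0)
    (hv' : Rat F₀ v') (hv'0 : v' ≠ 0) (hv'v' : bf σ J v' v' = 0) :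
    ∃ g : GL (Fin n) F, RatMat F₀ (g : Matrix (Fin n) (Fin n) F) ∧
      IsoU σ J (g : Matrix (Fin n) (Fin n) F) ∧ (g : Matrix (Fin n) (Fin n) F).det = 1 ∧
      (g : Matrix (Fin n) (Fin n) F) *ᵥ v = v' := by
  obtain ⟨w, hw⟩ := exists_tip hn hU hv hv0 hvv
  obtain ⟨w', hw'⟩ := exists_tip hn hU hv' hv'0 hv'v'
  obtain ⟨g, h1, h2, h3, h4, -⟩ := tip_trans hn hU hw hw'
  exact ⟨g, h1, h2, h3, h4⟩

theorem exists_partner (hU : USet F₀ σ J) {v : Fin n → F} (hv : Rat F₀ v) (hv0 : v ≠ 0)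
    (hvv : bf σ J v v = 0) : ∃ f : Fin n → F, Rat F₀ f ∧ bf σ J f f = 0 ∧ bf σ J v f = 1 := by
  -- a rational vector pairing non-trivially with `v`
  obtain ⟨j, hj⟩ : ∃ j, bf σ J v (Pi.single j 1) ≠ 0 := by
    by_contra hcon
    push Not at hcon
    apply hv0
    have h1 : v ᵥ* J = 0 := by
      ext j
      rw [← bf_single_right (σ := σ), hcon j]
      rfl
    have h2 : v = (v ᵥ* J) ᵥ* J⁻¹ := by
      rw [vecMul_vecMul, Matrix.mul_nonsing_inv J hU.nondeg, vecMul_one]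
    rw [h2, h1, zero_vecMul]
  obtain ⟨x, hxr, hvx⟩ : ∃ x : Fin n → F, Subf.Rat F₀ x ∧ bf σ J v x = 1 := by
    have hcF : bf σ J v (Pi.single j 1) ∈ F₀ := hU.bf_rat hv (Subf.Rat.single F₀ j F₀.one_mem)
    refine ⟨(σ (bf σ J v (Pi.single j 1)))⁻¹ • Pi.single j 1,
      Subf.Rat.smul (F₀.inv_mem (hU.stable _ hcF)) (Subf.Rat.single F₀ j F₀.one_mem), ?_⟩
    rw [bf_smul_right, map_inv₀, hU.invol, inv_mul_cancel₀ hj]
  have hxv : bf σ J x v = 1 := by rw [hU.bf_symm v x, hvx, map_one]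
  have hxxF : bf σ J x x ∈ F₀ := hU.bf_rat hxr hxr
  have hxxσ : σ (bf σ J x x) = bf σ J x x := (hU.bf_symm x x).symm
  obtain ⟨t, htF, ht⟩ := exists_trace_rat hU (F₀.neg_mem hxxF) (by rw [map_neg, hxxσ])
  refine ⟨x + t • v, Subf.Rat.add hxr (Subf.Rat.smul htF hv), ?_, ?_⟩
  · rw [bf_add_left, bf_add_right, bf_add_right, bf_smul_left, bf_smul_left, bf_smul_right,
      bf_smul_right, hvv, hvx, hxv]
    linear_combination ht
  · rw [bf_add_right, bf_smul_right, hvv, hvx]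
    ring

theorem iso_span [Finite F] (hn : 13 ≤ n) (hU : USet F₀ σ J) {y a b : Fin n → F} (hy : Rat F₀ y)
    (ha : Rat F₀ a) (hb : Rat F₀ b) (hya : bf σ J y a = 0) (hyb : bf σ J y b = 0) :
    ∃ w : Fin 3 → Fin n → F, (∀ i, Rat F₀ (w i) ∧ bf σ J (w i) (w i) = 0 ∧ bf σ J (w i) a = 0 ∧
      bf σ J (w i) b = 0) ∧ y = w 0 + w 1 + w 2 := by
  obtain ⟨e, f, he, hf, hee, hff, hef, hea, hfa, heb, hfb, hey, hfy⟩ :=
    exists_hyp_perp3 hn hU ha hb hy
  have hfe : bf σ J f e = 1 := by rw [hU.bf_symm e f, hef, map_one]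
  have hye := hU.bf_eq_zero_symm hey
  have hyf := hU.bf_eq_zero_symm hfy
  have hyyF : bf σ J y y ∈ F₀ := hU.bf_rat hy hy
  have hyyσ : σ (bf σ J y y) = bf σ J y y := (hU.bf_symm y y).symm
  obtain ⟨t, htF, ht⟩ := exists_trace_rat hU (F₀.neg_mem hyyF) (by rw [map_neg, hyyσ])
  refine ⟨![y + e + t • f, -e, -(t • f)], ?_, ?_⟩
  · intro i
    fin_cases i
    · refine ⟨Subf.Rat.add (Subf.Rat.add hy he) (Subf.Rat.smul htF hf), ?_, ?_, ?_⟩
      · show bf σ J (y + e + t • f) (y + e + t • f) = 0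
        simp only [bf_add_left, bf_add_right, bf_smul_left, bf_smul_right, hee, hff, hef, hfe, hey,
          hfy, hye, hyf]
        linear_combination ht
      · show bf σ J (y + e + t • f) a = 0
        rw [bf_add_left, bf_add_left, bf_smul_left, hya, hea, hfa]
        ring
      · show bf σ J (y + e + t • f) b = 0
        rw [bf_add_left, bf_add_left, bf_smul_left, hyb, heb, hfb]
        ring
    · refine ⟨Subf.Rat.neg he, ?_, ?_, ?_⟩
      · show bf σ J (-e) (-e) = 0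
        rw [bf_neg_left, bf_neg_right, hee]; ring
      · show bf σ J (-e) a = 0
        rw [bf_neg_left, hea, neg_zero]
      · show bf σ J (-e) b = 0
        rw [bf_neg_left, heb, neg_zero]
    · refine ⟨Subf.Rat.neg (Subf.Rat.smul htF hf), ?_, ?_, ?_⟩
      · show bf σ J (-(t • f)) (-(t • f)) = 0
        rw [bf_neg_left, bf_neg_right, bf_smul_left, bf_smul_right, hff]; ring
      · show bf σ J (-(t • f)) a = 0
        rw [bf_neg_left, bf_smul_left, hfa]; ring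
      · show bf σ J (-(t • f)) b = 0
        rw [bf_neg_left, bf_smul_left, hfb]; ring
  · show y = (y + e + t • f) + -e + -(t • f)
    abel

theorem exists_iso_bf_ne [Finite F] (hn : 13 ≤ n) (hU : USet F₀ σ J) {x : Fin n → F} (hx : x ≠ 0) :
    ∃ u : Fin n → F, Rat F₀ u ∧ bf σ J u u = 0 ∧ bf σ J x u ≠ 0 := by
  by_contra hcon
  push Not at hcon
  apply hx
  -- `x` is orthogonal to all rational vectors
  have h1 : ∀ y, Rat F₀ y → bf σ J x y = 0 := by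
    intro y hy
    obtain ⟨w, hw, hyw⟩ := iso_span hn hU hy (Subf.Rat.zero F₀) (Subf.Rat.zero F₀) (bf_zero_right y)
      (bf_zero_right y)
    rw [hyw, bf_add_right, bf_add_right, hcon _ (hw 0).1 (hw 0).2.1, hcon _ (hw 1).1 (hw 1).2.1,
      hcon _ (hw 2).1 (hw 2).2.1]
    ring
  have h2 : x ᵥ* J = 0 := by
    ext j
    rw [← bf_single_right (σ := σ), h1 _ (Subf.Rat.single F₀ j F₀.one_mem)]
    rfl
  have h3 : x = (x ᵥ* J) ᵥ* J⁻¹ := by
    rw [vecMul_vecMul, Matrix.mul_nonsing_inv J hU.nondeg, vecMul_one]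
  rw [h3, h2, zero_vecMul]

theorem exists_frame3 [Finite F] (hn : 13 ≤ n) (hU : USet F₀ σ J) :
    ∃ e f : Fin 3 → Fin n → F, (∀ i, Rat F₀ (e i) ∧ Rat F₀ (f i)) ∧
      ∀ i j, bf σ J (e i) (e j) = 0 ∧ bf σ J (f i) (f j) = 0 ∧
        bf σ J (e i) (f j) = if i = j then 1 else 0 := by
  obtain ⟨e0, f0, he0, hf0, h00, k00, m00, -⟩ :=
    exists_hyp_perp2 hn hU (Subf.Rat.zero F₀ (n := n)) (Subf.Rat.zero F₀ (n := n))
  obtain ⟨e1, f1, he1, hf1, h11, k11, m11, a1, b1, c1, d1⟩ := exists_hyp_perp2 hn hU he0 hf0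
  obtain ⟨e2, f2, he2, hf2, h22, k22, m22, a2, b2, c2, d2, a3, b3, c3, d3⟩ :=
    exists_hyp_perp4 hn hU he0 hf0 he1 hf1
  have sy := fun {x y : Fin n → F} (h : bf σ J x y = 0) => hU.bf_eq_zero_symm h
  refine ⟨![e0, e1, e2], ![f0, f1, f2], ?_, ?_⟩
  · intro i
    fin_cases i
    · exact ⟨he0, hf0⟩
    · exact ⟨he1, hf1⟩
    · exact ⟨he2, hf2⟩
  · intro i j
    fin_cases i <;> fin_cases j
    · exact ⟨h00, k00, by simpa using m00⟩
    · exact ⟨sy a1, sy d1, by simpa using sy b1⟩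
    · exact ⟨sy a2, sy d2, by simpa using sy b2⟩
    · exact ⟨a1, d1, by simpa using c1⟩
    · exact ⟨h11, k11, by simpa using m11⟩
    · exact ⟨sy a3, sy d3, by simpa using sy b3⟩
    · exact ⟨a2, d2, by simpa using c2⟩
    · exact ⟨a3, d3, by simpa using c3⟩
    · exact ⟨h22, k22, by simpa using m22⟩

end Cfsg.Agent.Lib.Helper5.SUf
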