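import Mathlib
import Cfsg.Agent.Lib.Helper5.SUf.Defs2
import Cfsg.Agent.Lib.Helper5.Subf_F
import Cfsg.Agent.Lib.Lead.SUf_Field

set_option autoImplicit false

/-!
# S5658, package PK-ODD1: odd characteristic, Dickson transport and polarisation
-/

namespace Cfsg.Agent.Lib.Helper5.SUf

open Matrix Cfsg.Agent.Lib.Helper7 Cfsg.Agent.Lib.Helper7.Subf

variable {F : Type*} [Field F] {n : ℕ} {F₀ : Subfield F} {σ : F ≃+* F}
  {J : Matrix (Fin n) (Fin n) F} {M : Subgroup (GL (Fin n) F)}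

theorem norm_rat [Fintype F] (h2 : (2 : F) ≠ 0) (hn : 13 ≤ n) (hU : USet F₀ σ J) (hM : MIso σ J M)
    (hN : HasNIso F₀ σ J M) (hL : LRat F₀ σ J M) (r : ℕ) (hro : Odd r)
    (hcard : Fintype.card F = Nat.card F₀ ^ r) (g : GL (Fin n) F) (hg : g ∈ M)
    {v v' : Fin n → F} (hv : Subf.Rat F₀ v) (hvv : bf σ J v v = 0) (hv' : Subf.Rat F₀ v')
    (hv'v' : bf σ J v' v' = 0) :
    bf σ J ((g : Matrix (Fin n) (Fin n) F) *ᵥ v') v *
      σ (bf σ J ((g : Matrix (Fin n) (Fin n) F) *ᵥ v') v) ∈ F₀ := by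
  obtain ⟨w, hw⟩ : ∃ w, w = (g : Matrix (Fin n) (Fin n) F) *ᵥ v' := ⟨_, rfl⟩
  rw [← hw]
  by_cases hμ : bf σ J w v = 0
  · rw [hμ, zero_mul]
    exact F₀.zero_mem
  have hv0 : v ≠ 0 := by
    rintro rfl
    exact hμ (bf_zero_right w)
  obtain ⟨ε, hεF, hε0, hεσ⟩ := exists_eps hU
  have hgI := (hM g hg).1
  have hww : bf σ J w w = 0 := by rw [hw, hgI, hv'v']
  have hTv : Mm M (tu σ J ε v) := hN.hasRatIso.mm_tu hU hεF hεσ hv hvv
  have hTv' : Mm M (tu σ J ε v') := hN.hasRatIso.mm_tu hU hεF hεσ hv' hv'v'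
  have hTw : Mm M (tu σ J ε w) := by
    rw [hw]
    exact mm_conj_tu hg hgI hTv'
  have e1 : ∀ (c : F) (x : Fin n → F), tvm c x (ε • fl σ J x) = tu σ J (c * ε) x := by
    intro c x
    rw [tvm_smul_right]
    rfl
  have hφv : (ε • fl σ J v) ⬝ᵥ v = 0 := by
    rw [smul_dotProduct, fl_dot, hvv, smul_zero]
  have hψw : (ε • fl σ J w) ⬝ᵥ w = 0 := by
    rw [smul_dotProduct, fl_dot, hww, smul_zero]
  have hφw : (ε • fl σ J v) ⬝ᵥ w = ε * bf σ J w v := by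
    rw [smul_dotProduct, fl_dot, smul_eq_mul]
  have hψv : (ε • fl σ J w) ⬝ᵥ v = ε * σ (bf σ J w v) := by
    rw [smul_dotProduct, fl_dot, smul_eq_mul, hU.bf_symm w v]
  obtain ⟨lam, hlam⟩ : ∃ lam, lam = (ε * bf σ J w v) * (ε * σ (bf σ J w v)) := ⟨_, rfl⟩
  have hlam0 : lam ≠ 0 := by
    rw [hlam]
    refine mul_ne_zero (mul_ne_zero hε0 hμ) (mul_ne_zero hε0 ?_)
    intro h0
    apply hμ
    have := congrArg σ h0
    rwa [hU.invol, map_zero] at this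
  have hlamσ : σ lam = lam := by
    rw [hlam, map_mul, map_mul, map_mul, hU.invol, hεσ]
    ring
  have hlamF : lam ∈ F₀ := by
    by_cases hsq : lam ^ 2 = -1
    · apply mem_of_sq_mem F₀ r hro hcard
      rw [← sq, hsq]
      exact F₀.neg_mem F₀.one_mem
    · have hDT := dickson_transport h2 M v (ε • fl σ J v) w (ε • fl σ J w) hφv hψw
        (by rw [e1, one_mul]; exact hTv) (by rw [e1, one_mul]; exact hTw)
        (by rw [hφw, hψv, ← hlam]; exact hlam0) (by rw [hφw, hψv, ← hlam]; exact hsq)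
      rw [hφw, hψv, ← hlam] at hDT
      have h3 := hDT lam (Subfield.subset_closure rfl)
      rw [e1] at h3
      have h4 : lam * ε ∈ F₀ := by
        refine hL (lam * ε) v ?_ hv hv0 hvv h3
        rw [map_mul, hlamσ, hεσ]
        ring
      have e : lam = lam * ε * ε⁻¹ := by field_simp
      rw [e]
      exact F₀.mul_mem h4 (F₀.inv_mem hεF)
  have e : bf σ J w v * σ (bf σ J w v) = lam * (ε * ε)⁻¹ := by
    rw [hlam]
    field_simp
  rw [e]
  exact F₀.mul_mem hlamF (F₀.inv_mem (F₀.mul_mem hεF hεF))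

/-- polarisation -/
theorem mul_rat [Finite F] (hU : USet F₀ σ J) {w : Fin n → F}
    (h : ∀ v, Subf.Rat F₀ v → bf σ J v v = 0 → bf σ J w v * σ (bf σ J w v) ∈ F₀) :
    ∀ v₁ v₂, Subf.Rat F₀ v₁ → Subf.Rat F₀ v₂ → bf σ J v₁ v₁ = 0 → bf σ J v₂ v₂ = 0 →
      bf σ J v₁ v₂ = 0 → bf σ J w v₁ * σ (bf σ J w v₂) ∈ F₀ := by
  intro v₁ v₂ hv₁ hv₂ h11 h22 h12
  have h21 := hU.bf_eq_zero_symm h12
  apply trace_lemma_add hU
  intro c hc
  have hiso : bf σ J (v₁ + c • v₂) (v₁ + c • v₂) = 0 := by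
    rw [bf_add_left, bf_add_right, bf_add_right, bf_smul_left, bf_smul_left, bf_smul_right,
      bf_smul_right, h11, h22, h12, h21]
    ring
  have h3 := h (v₁ + c • v₂) (hv₁.add (Subf.Rat.smul hc hv₂)) hiso
  rw [bf_add_right, bf_smul_right, map_add, map_mul, hU.invol] at h3
  have ha := h v₁ hv₁ h11
  have hb := h v₂ hv₂ h22
  have hcc : c * σ c ∈ F₀ := F₀.mul_mem hc (hU.stable c hc)
  have e : c * (bf σ J w v₁ * σ (bf σ J w v₂)) + σ (c * (bf σ J w v₁ * σ (bf σ J w v₂))) =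
      (bf σ J w v₁ + σ c * bf σ J w v₂) * (σ (bf σ J w v₁) + c * σ (bf σ J w v₂)) -
        bf σ J w v₁ * σ (bf σ J w v₁) - (c * σ c) * (bf σ J w v₂ * σ (bf σ J w v₂)) := by
    rw [map_mul, map_mul, hU.invol]
    ring
  rw [e]
  exact F₀.sub_mem (F₀.sub_mem h3 ha) (F₀.mul_mem hcc hb)

end Cfsg.Agent.Lib.Helper5.SUf
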