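import Mathlib
import Cfsg.Agent.Lib.Helper5.SUf.Geo2
import Cfsg.Agent.Lib.Helper5.SUf.Odd1
import Cfsg.Agent.Lib.Helper6.SUf_S
import Cfsg.Agent.Lib.Helper8.SUf_SL3b
import Cfsg.Agent.Lib.Helper8.SUf_Odd2
import Cfsg.Agent.Lib.Lead.SUf_NK
import Cfsg.Agent.Lib.Lead.SUf_Gen
import Cfsg.Agent.Lib.Helper3.SUf_EVEN

set_option autoImplicit false

/-!
# S5658: the main dichotomy, assembled from the packages
-/

namespace Cfsg.Agent.Lib.Helper5.SUf

open Matrix Cfsg.Agent.Lib.Helper7.Subf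

variable {F : Type*} [Field F] {n : ℕ} {F₀ : Subfield F} {σ : F ≃+* F}
  {J : Matrix (Fin n) (Fin n) F} {M : Subgroup (GL (Fin n) F)}

theorem case_two_odd [Fintype F] (h2 : (2 : F) ≠ 0) (hn : 13 ≤ n) (hU : USet F₀ σ J)
    (hM : MIso σ J M) (hN : HasNIso F₀ σ J M) (hL : LRat F₀ σ J M) (r : ℕ) (hro : Odd r)
    (hcard : Fintype.card F = Nat.card F₀ ^ r) :
    ∀ g ∈ M, InN F₀ (g : Matrix (Fin n) (Fin n) F) := by
  intro g hg
  obtain ⟨v', hv', hv'0, hv'v'⟩ := exists_iso hn hU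
  have hw0 : (g : Matrix (Fin n) (Fin n) F) *ᵥ v' ≠ 0 := by
    intro h0
    apply hv'0
    have h1 : ((g⁻¹ : GL (Fin n) F) : Matrix (Fin n) (Fin n) F) *ᵥ
        ((g : Matrix (Fin n) (Fin n) F) *ᵥ v') = v' := by
      rw [mulVec_mulVec, ← Units.val_mul, inv_mul_cancel, Units.val_one, one_mulVec]
    rw [← h1, h0, mulVec_zero]
  have h1 : ∀ v, Rat F₀ v → bf σ J v v = 0 →
      bf σ J ((g : Matrix (Fin n) (Fin n) F) *ᵥ v') v *
        σ (bf σ J ((g : Matrix (Fin n) (Fin n) F) *ᵥ v') v) ∈ F₀ :=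
    fun v hv hvv => norm_rat h2 hn hU hM hN hL r hro hcard g hg hv hvv hv' hv'v'
  obtain ⟨l, hl0, hl⟩ := proj_rat hn hU hw0 (mul_rat hU h1)
  refine stab_inN hn hU hM hN hL g hg hv' hl hv'0 hv'v' (inv_ne_zero hl0) ?_
  rw [smul_smul, inv_mul_cancel₀ hl0, one_smul]

theorem main_dichotomy [Fintype F] (hn : 13 ≤ n) (hU : USet F₀ σ J) (hM : MIso σ J M)
    (hN : HasNIso F₀ σ J M) (r : ℕ) (hr : r.Prime) (hro : Odd r)
    (hcard : Fintype.card F = Nat.card F₀ ^ r) :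
    (∀ g ∈ M, InN F₀ (g : Matrix (Fin n) (Fin n) F)) ∨
      ∀ (a : F) (x : Fin n → F), σ a = -a → bf σ J x x = 0 → Mm M (tu σ J a x) := by
  rcases dichotomy hn hU hM hN r hr hcard with hL | hA
  · left
    by_cases h2 : (2 : F) = 0
    · exact case_two_even h2 hn hU hM hN (nku hn hU hM hN hL)
    · exact case_two_odd h2 hn hU hM hN hL r hro hcard
  · right
    exact case_one hn hU hM hN hA

end Cfsg.Agent.Lib.Helper5.SUf
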