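import Mathlib
import Cfsg.Prelude
import Cfsg.Agent.Lib.Helper5.SUf.Main
import Cfsg.Agent.Lib.Helper9.SUMax3
import Cfsg.Agent.Lib.Helper1.Subf_A4
import Cfsg.Agent.Lib.Helper1.HermCount

set_option autoImplicit false

/-!
# S5658: the transfer to `P`-coordinates and the final statement

`gram σ P = Pᵀ * σ(P)` is the Gram matrix of the standard unitary form in the basis given by the columns of `P`;
`uset_gram` checks the standing hypotheses; `subfield_su_maximal` is the statement S5658.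
-/

namespace Cfsg.Agent.Lib.Helper5.SUf

open Matrix Cfsg.Agent.Lib.Helper7.Subf Module Cfsg.Agent.Lib.Helper2 Cfsg.Agent.Lib.Helper2.UT
  Cfsg.Agent.Lib.Helper2.IsomDecomp Cfsg.Agent.Lib.Helper2.HermDecomp
  Cfsg.Agent.Lib.Helper2.GUIsom Cfsg.Agent.H9SUMax

variable {F : Type*} [Field F] {n : ℕ}




/-- the fixed field of `σ` -/
def fixSub (σ : F ≃+* F) : Subfield F where
  carrier := {x | σ x = x}
  mul_mem' := by
    intro a b ha hb
    show σ (a * b) = a * b
    rw [map_mul, ha, hb]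
  one_mem' := map_one σ
  add_mem' := by
    intro a b ha hb
    show σ (a + b) = a + b
    rw [map_add, ha, hb]
  zero_mem' := map_zero σ
  neg_mem' := by
    intro a ha
    show σ (-a) = -a
    rw [map_neg, ha]
  inv_mem' := by
    intro a ha
    show σ a⁻¹ = a⁻¹
    rw [map_inv₀, ha]

theorem mem_fixSub (σ : F ≃+* F) (x : F) : x ∈ fixSub σ ↔ σ x = x := Iff.rfl

open Cfsg.Agent.Lib.Helper1.HermCount in
theorem card_fixSub [Fintype F] {q : ℕ} (hF : Fintype.card F = q ^ 2) (σ : F ≃+* F)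
    (hσq : ∀ a : F, σ a = a ^ q) : Nat.card (fixSub σ) = q := by
  classical
  have hq := two_le_q hF
  have h1 := card_fixedUnits hF
  have e : (fixSub σ : Set F) = ↑(insert (0 : F) (fixedUnits F q)) := by
    ext x
    simp only [SetLike.mem_coe, mem_fixSub, Finset.coe_insert, Set.mem_insert_iff, fixedUnits,
      Finset.mem_filter, Finset.mem_univ, true_and, hσq]
    constructor
    · intro h
      by_cases hx : x = 0
      · left; exact hx
      · right; exact ⟨hx, h⟩
    · rintro (h | h)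
      · rw [h, zero_pow (by omega)]
      · exact h.2
  have h0 : (0 : F) ∉ fixedUnits F q := by
    simp [fixedUnits]
  have : Nat.card (fixSub σ) = Nat.card ((fixSub σ : Set F)) := rfl
  rw [this, e, Nat.card_coe_set_eq, Set.ncard_coe_finset, Finset.card_insert_of_notMem h0, h1]
  omega

/-- `σ` is non-trivial on a subfield of odd degree -/
theorem nontriv_of_odd [Fintype F] {q : ℕ} (hF : Fintype.card F = q ^ 2) (σ : F ≃+* F)
    (hσq : ∀ a : F, σ a = a ^ q) (F₀ : Subfield F) (r : ℕ) (hro : Odd r)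
    (hcard : Fintype.card F = Nat.card F₀ ^ r) : ∃ c ∈ F₀, σ c ≠ c := by
  by_contra hcon
  push Not at hcon
  have hle : F₀ ≤ fixSub σ := fun c hc => hcon c hc
  obtain ⟨d, e, hd, he⟩ := PkA4.card_tower F₀ (fixSub σ) hle
  rw [card_fixSub hF σ hσq] at hd
  have h2 : 2 ≤ Nat.card F₀ := by
    have : 1 < Nat.card ↥F₀ := Finite.one_lt_card
    omega
  have h3 : Nat.card F₀ ^ (2 * d) = Nat.card F₀ ^ r := by
    rw [mul_comm, pow_mul, ← hd, ← hF, hcard]
  have h4 : 2 * d = r := Nat.pow_right_injective h2 h3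
  obtain ⟨k, hk⟩ := hro
  omega

/-- the Gram matrix of the standard unitary form in the basis given by the columns of `P` -/
def gram (σ : F ≃+* F) (P : Matrix (Fin n) (Fin n) F) : Matrix (Fin n) (Fin n) F :=
  Pᵀ * P.map σ

theorem gram_apply (σ : F ≃+* F) (P : Matrix (Fin n) (Fin n) F) (i j : Fin n) :
    gram σ P i j = ∑ k, P k i * σ (P k j) := by
  simp [gram, Matrix.mul_apply]

theorem bf_gram (σ : F ≃+* F) {q : ℕ} (hσq : ∀ a : F, σ a = a ^ q)
    (P : Matrix (Fin n) (Fin n) F) (x y : Fin n → F) :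
    bf σ (gram σ P) x y = Cfsg.hermForm n F q (P *ᵥ x) (P *ᵥ y) := by
  rw [bf_eq_sum]
  unfold Cfsg.hermForm
  simp only [← hσq, mulVec, dotProduct, map_sum, map_mul, gram_apply, Finset.mul_sum,
    Finset.sum_mul]
  rw [Finset.sum_congr rfl (fun a _ => Finset.sum_comm), Finset.sum_comm,
    Finset.sum_congr rfl (fun k _ => Finset.sum_comm)]
  refine Finset.sum_congr rfl (fun k _ => ?_)
  refine Finset.sum_congr rfl (fun b _ => ?_)
  refine Finset.sum_congr rfl (fun a _ => ?_)
  ring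





theorem bf_single (σ : F ≃+* F) (J : Matrix (Fin n) (Fin n) F) (i j : Fin n) :
    bf σ J (Pi.single i 1) (Pi.single j 1) = J i j := by
  classical
  rw [bf_eq_sum, Finset.sum_eq_single i, Finset.sum_eq_single j]
  · rw [Pi.single_eq_same, Pi.single_eq_same, map_one, one_mul, mul_one]
  · intro b _ hb
    rw [Pi.single_eq_of_ne hb, map_zero, mul_zero]
  · intro h; exact absurd (Finset.mem_univ j) h
  · intro b _ hb
    apply Finset.sum_eq_zero
    intro c _
    rw [Pi.single_eq_of_ne hb, zero_mul, zero_mul]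
  · intro h; exact absurd (Finset.mem_univ i) h

theorem uset_gram [Fintype F] {q : ℕ} (hF : Fintype.card F = q ^ 2) (σ : F ≃+* F)
    (hσ2 : ∀ a : F, σ (σ a) = a) (hσq : ∀ a : F, σ a = a ^ q) (F₀ : Subfield F) (r : ℕ)
    (hro : Odd r) (hcard : Fintype.card F = Nat.card F₀ ^ r) (P : GL (Fin n) F)
    (hP : Cfsg.Geo.IsFormRationalStructure (Cfsg.hermForm n F q) F₀ 1 P) :
    USet F₀ σ (gram σ (P : Matrix (Fin n) (Fin n) F)) where
  invol := hσ2
  stable := by
    intro c hc
    rw [hσq]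
    exact F₀.pow_mem hc q
  nontriv := nontriv_of_odd hF σ hσq F₀ r hro hcard
  herm := by
    intro i j
    rw [gram_apply, gram_apply, map_sum]
    refine Finset.sum_congr rfl (fun k _ => ?_)
    rw [map_mul, hσ2, mul_comm]
  rat := by
    intro i j
    rw [← bf_single σ (gram σ (P : Matrix (Fin n) (Fin n) F)) i j, bf_gram σ hσq]
    have := hP (Pi.single i 1) (Pi.single j 1) (Rat.single F₀ i F₀.one_mem)
      (Rat.single F₀ j F₀.one_mem)
    rwa [one_mul] at this
  nondeg := by
    rw [gram, det_mul, det_transpose]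
    have h1 : IsUnit (P : Matrix (Fin n) (Fin n) F).det := by
      rw [← Matrix.isUnit_iff_isUnit_det]
      exact P.isUnit
    have h2 : ((P : Matrix (Fin n) (Fin n) F).map σ).det = σ (P : Matrix (Fin n) (Fin n) F).det := by
      have := RingHom.map_det (σ : F →+* F) (P : Matrix (Fin n) (Fin n) F)
      rw [RingHom.mapMatrix_apply] at this
      exact this.symm
    rw [h2]
    exact h1.mul (h1.map σ)





theorem inv_mulVec_mulVec' (P : GL (Fin n) F) (x : Fin n → F) :
    ((P⁻¹ : GL (Fin n) F) : Matrix (Fin n) (Fin n) F) *ᵥ ((P : Matrix (Fin n) (Fin n) F) *ᵥ x) = x := by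
  rw [mulVec_mulVec, ← Units.val_mul, inv_mul_cancel, Units.val_one, one_mulVec]

theorem mulVec_inv_mulVec' (P : GL (Fin n) F) (x : Fin n → F) :
    (P : Matrix (Fin n) (Fin n) F) *ᵥ (((P⁻¹ : GL (Fin n) F) : Matrix (Fin n) (Fin n) F) *ᵥ x) = x := by
  rw [mulVec_mulVec, ← Units.val_mul, mul_inv_cancel, Units.val_one, one_mulVec]

theorem mem_GU_iff' {q : ℕ} (g : GL (Fin n) F) :
    g ∈ Cfsg.GU n F q ↔ ∀ u v, Cfsg.hermForm n F q ((g : Matrix (Fin n) (Fin n) F) *ᵥ u)
      ((g : Matrix (Fin n) (Fin n) F) *ᵥ v) = Cfsg.hermForm n F q u v := Iff.rfl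

/-- conjugating by `P` turns isometries of the Gram form into unitary matrices -/
theorem conj_mem_GU_iff (σ : F ≃+* F) {q : ℕ} (hσq : ∀ a : F, σ a = a ^ q) (P h : GL (Fin n) F) :
    P * h * P⁻¹ ∈ Cfsg.GU n F q ↔
      IsoU σ (gram σ (P : Matrix (Fin n) (Fin n) F)) (h : Matrix (Fin n) (Fin n) F) := by
  rw [mem_GU_iff']
  constructor
  · intro hg x y
    have := hg ((P : Matrix (Fin n) (Fin n) F) *ᵥ x) ((P : Matrix (Fin n) (Fin n) F) *ᵥ y)
    rw [Units.val_mul, Units.val_mul, ← mulVec_mulVec, ← mulVec_mulVec, ← mulVec_mulVec,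
      ← mulVec_mulVec, inv_mulVec_mulVec', inv_mulVec_mulVec'] at this
    rw [bf_gram σ hσq, bf_gram σ hσq]
    exact this
  · intro hg u v
    have := hg (((P⁻¹ : GL (Fin n) F) : Matrix (Fin n) (Fin n) F) *ᵥ u)
      (((P⁻¹ : GL (Fin n) F) : Matrix (Fin n) (Fin n) F) *ᵥ v)
    rw [bf_gram σ hσq, bf_gram σ hσq, mulVec_inv_mulVec', mulVec_inv_mulVec'] at this
    rw [Units.val_mul, Units.val_mul, ← mulVec_mulVec, ← mulVec_mulVec, ← mulVec_mulVec,
      ← mulVec_mulVec]
    exact this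

theorem mem_specialLinear_iff' (g : GL (Fin n) F) :
    g ∈ Cfsg.Geo.specialLinear (Fin n) F ↔ (g : Matrix (Fin n) (Fin n) F).det = 1 := by
  unfold Cfsg.Geo.specialLinear
  rw [MonoidHom.mem_ker, Units.ext_iff]
  rfl

theorem conj_mem_specialLinear_iff (P h : GL (Fin n) F) :
    P * h * P⁻¹ ∈ Cfsg.Geo.specialLinear (Fin n) F ↔ (h : Matrix (Fin n) (Fin n) F).det = 1 := by
  rw [mem_specialLinear_iff', Units.val_mul, Units.val_mul, det_mul, det_mul, mul_comm, ← mul_assoc,
    ← det_mul, ← Units.val_mul, inv_mul_cancel, Units.val_one, det_one, one_mul]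

/-- membership in the subfield group, in `P`-coordinates -/
theorem mem_subfieldSubgroup_iff' (F₀ : Subfield F) (P x : GL (Fin n) F) :
    x ∈ Cfsg.Geo.subfieldSubgroup F₀ P ↔
      InN F₀ ((P⁻¹ * x * P : GL (Fin n) F) : Matrix (Fin n) (Fin n) F) := by
  rw [inN_iff_mem]
  unfold Cfsg.Geo.subfieldSubgroup
  rw [Subgroup.mem_map]
  constructor
  · rintro ⟨y, hy, rfl⟩
    simp only [MulEquiv.coe_toMonoidHom, MulAut.conj_apply]
    have : P⁻¹ * (P * y * P⁻¹) * P = y := by group
    rw [this]; exact hy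
  · intro h
    refine ⟨P⁻¹ * x * P, h, ?_⟩
    simp only [MulEquiv.coe_toMonoidHom, MulAut.conj_apply]
    group





/-- a non-rational long root element is not in `N` -/
theorem not_inN_tu [Finite F] (hn : 3 ≤ n) {F₀ : Subfield F} {σ : F ≃+* F}
    {J : Matrix (Fin n) (Fin n) F} (hU : USet F₀ σ J) {a : F} (ha : a ∉ F₀) {x : Fin n → F}
    (hx : Rat F₀ x) (hx0 : x ≠ 0) : ¬ InN F₀ (tu σ J a x) := by
  intro h
  have h1 : RatMat F₀ (tvm a x (fl σ J x)) := ratMat_of_inN_tvm hn h
  obtain ⟨i, hi⟩ : ∃ i, x i ≠ 0 := by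
    by_contra hcon
    push Not at hcon
    exact hx0 (funext hcon)
  have hφ0 : fl σ J x ≠ 0 := by
    intro h0
    apply hx0
    apply hU.eq_zero_of_bf_left
    intro y
    rw [← fl_dot, h0, zero_dotProduct]
  obtain ⟨j, hj⟩ : ∃ j, fl σ J x j ≠ 0 := by
    by_contra hcon
    push Not at hcon
    exact hφ0 (funext hcon)
  have h2 : a * (x i * fl σ J x j) ∈ F₀ := by
    have h3 := F₀.sub_mem (h1 i j) (RatMat.one F₀ i j)
    have e : tvm a x (fl σ J x) i j - (1 : Matrix (Fin n) (Fin n) F) i j = a * (x i * fl σ J x j) := by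
      simp [tvm, Matrix.add_apply, Matrix.smul_apply, vecMulVec_apply]
    rwa [e] at h3
  have h4 : x i * fl σ J x j ∈ F₀ := F₀.mul_mem (hx i) (hU.rat_fl hx j)
  have h5 : x i * fl σ J x j ≠ 0 := mul_ne_zero hi hj
  apply ha
  have e : a = a * (x i * fl σ J x j) * (x i * fl σ J x j)⁻¹ := by
    field_simp
  rw [e]
  exact F₀.mul_mem h2 (F₀.inv_mem h4)

/-- **S5658**: subfield groups of odd prime degree are maximal in `SU_n`, `n ≥ 13`. -/
theorem subfield_su_maximal {F : Type*} [Field F] [Fintype F] (n q : ℕ)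
    (hF : Fintype.card F = q ^ 2) (hn : 13 ≤ n) (F₀ : Subfield F) (r : ℕ) (hr : r.Prime)
    (hro : Odd r) (hcard : Fintype.card F = Nat.card F₀ ^ r)
    (P : Matrix.GeneralLinearGroup (Fin n) F)
    (hP : Cfsg.Geo.IsFormRationalStructure (Cfsg.hermForm n F q) F₀ 1 P) :
    Cfsg.Geo.IsMaximalIn (Cfsg.GU n F q ⊓ Cfsg.Geo.specialLinear (Fin n) F)
      (Cfsg.Geo.subfieldSubgroup F₀ P ⊓ (Cfsg.GU n F q ⊓ Cfsg.Geo.specialLinear (Fin n) F)) := by
  classical
  obtain ⟨σ, hσ, hσq⟩ := exists_sigma hF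
  have hσ2 := WittHerm.sigma_sigma hσ
  have hq2 : 2 ≤ q := Cfsg.Agent.Lib.Helper1.HermCount.two_le_q hF
  have hH := isHerm_hermForm (F := F) n q σ hσ2 hσq
  have hnd : ∀ v : Fin n → F, (∀ w, Cfsg.hermForm n F q v w = 0) → v = 0 :=
    fun v hv => hermForm_nondeg n q (by omega) v hv
  have hdim : finrank F (Fin n → F) = n := Module.finrank_fin_fun F
  set J := gram σ (P : Matrix (Fin n) (Fin n) F) with hJ
  have hU : USet F₀ σ J := uset_gram hF σ hσ2 hσq F₀ r hro hcard P hP
  refine ⟨?_, ?_⟩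
  · -- properness
    refine lt_of_le_of_ne inf_le_right ?_
    intro heq
    have hex : ∃ z : F, z ∉ F₀ := by
      by_contra hcon
      simp only [not_exists, not_not] at hcon
      have htop : F₀ = ⊤ := by
        ext x; simp [hcon x]
      have hc0 : Nat.card F₀ = Fintype.card F := by
        rw [htop, ← Nat.card_eq_fintype_card]
        exact Nat.card_congr (Subfield.topEquiv (K := F)).toEquiv
      rw [hc0] at hcard
      have h1 : 1 < Fintype.card F := Fintype.one_lt_card
      have h2 : 2 ≤ r := hr.two_le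
      have : Fintype.card F ^ 1 < Fintype.card F ^ r := Nat.pow_lt_pow_right h1 (by omega)
      rw [pow_one] at this
      omega
    obtain ⟨a, haσ, haF⟩ := exists_trace_zero_not_mem hU hex
    obtain ⟨x, hx, hx0, hxx⟩ := exists_iso hn hU
    obtain ⟨T, hT⟩ := exists_gl_tu (σ := σ) (J := J) a hxx
    have hTK : P * T * P⁻¹ ∈ Cfsg.GU n F q ⊓ Cfsg.Geo.specialLinear (Fin n) F := by
      refine Subgroup.mem_inf.2 ⟨?_, ?_⟩
      · rw [conj_mem_GU_iff σ hσq, hT]
        exact isoU_tu hU.invol hU.herm haσ hxx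
      · rw [conj_mem_specialLinear_iff, hT]
        exact det_tu a hxx
    rw [← heq] at hTK
    have h1 := (mem_subfieldSubgroup_iff' F₀ P _).1 hTK.1
    have e : P⁻¹ * (P * T * P⁻¹) * P = T := by group
    rw [e, hT] at h1
    exact not_inN_tu (by omega) hU haF hx hx0 h1
  · intro M hHM hMK
    set M₁ : Subgroup (GL (Fin n) F) := M.comap (MulAut.conj P).toMonoidHom with hM₁
    have hM₁mem : ∀ x : GL (Fin n) F, x ∈ M₁ ↔ P * x * P⁻¹ ∈ M := by
      intro x
      rw [hM₁, Subgroup.mem_comap]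
      simp only [MulEquiv.coe_toMonoidHom, MulAut.conj_apply]
    have hMI : MIso σ J M₁ := by
      intro g hg
      have h1 := hMK ((hM₁mem g).1 hg)
      exact ⟨(conj_mem_GU_iff σ hσq P g).1 h1.1, (conj_mem_specialLinear_iff P g).1 h1.2⟩
    have hNI : HasNIso F₀ σ J M₁ := by
      intro g hgN hgI hgd
      rw [hM₁mem]
      apply hHM
      refine Subgroup.mem_inf.2 ⟨?_, Subgroup.mem_inf.2 ⟨?_, ?_⟩⟩
      · rw [mem_subfieldSubgroup_iff']
        have e : P⁻¹ * (P * g * P⁻¹) * P = g := by group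
        rw [e]
        exact hgN
      · exact (conj_mem_GU_iff σ hσq P g).2 hgI
      · exact (conj_mem_specialLinear_iff P g).2 hgd
    rcases main_dichotomy hn hU hMI hNI r hr hro hcard with h | h
    · left
      apply le_antisymm _ hHM
      intro x hx
      refine Subgroup.mem_inf.2 ⟨?_, hMK hx⟩
      rw [mem_subfieldSubgroup_iff']
      apply h
      rw [hM₁mem]
      have e : P * (P⁻¹ * x * P) * P⁻¹ = x := by group
      rwa [e]
    · right
      apply le_antisymm hMK
      intro k hk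
      -- all unitary transvections lie in the image of `M`
      have hall : ∀ u : Fin n → F, Cfsg.hermForm n F q u u = 0 →
          u ∈ dirSet hH (M.map (glLin n F).toMonoidHom) := by
        intro u hu
        refine ⟨hu, ?_⟩
        intro c hc
        set x := ((P⁻¹ : GL (Fin n) F) : Matrix (Fin n) (Fin n) F) *ᵥ u with hx
        have hxx : bf σ J x x = 0 := by
          rw [hJ, bf_gram σ hσq, hx, mulVec_inv_mulVec']
          exact hu
        obtain ⟨g, hgM, hg⟩ := h c x hc hxx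
        refine ⟨P * g * P⁻¹, (hM₁mem g).1 hgM, ?_⟩
        apply LinearEquiv.ext
        intro z
        rw [MulEquiv.coe_toMonoidHom, glLin_apply, tv_apply, Units.val_mul, Units.val_mul,
          ← mulVec_mulVec, ← mulVec_mulVec, hg, tu_mulVec, mulVec_add, mulVec_smul,
          mulVec_inv_mulVec', hx, mulVec_inv_mulVec', hJ, bf_gram σ hσq, mulVec_inv_mulVec',
          mulVec_inv_mulVec']
      have hk1 : glLin n F k ∈ isom (Cfsg.hermForm n F q) := (mem_GU_iff k).1 hk.1
      have hk2 : LinearEquiv.det (glLin n F k) = 1 := (mem_specialLinear_iff k).1 hk.2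
      have := le_of_dirSet hσ hH hnd (by rw [hdim]; omega) (M.map (glLin n F).toMonoidHom) hall
        hk1 hk2
      obtain ⟨m, hm, hmk⟩ := this
      have : m = k := (glLin n F).injective hmk
      rwa [← this]


end Cfsg.Agent.Lib.Helper5.SUf
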